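import Mathlib
import Cfsg.Agent.H632.Numbers

/-!
# The rank of a block is smaller than the number of its characters

* `blockRank_lt`: if `B` has at least two members, then `blockRank p B < |B|`;
* `blockRank_pos`: `0 < blockRank p B`.
-/

set_option autoImplicit false

namespace Cfsg.Agent.H632.TwoChars

open Cfsg
open Cfsg.Agent Cfsg.Agent.H646.RegInner Cfsg.Agent.H646.RankTrace Cfsg.Agent.H648.HeightForm

section

variable {G : Type*} [Group G] [Fintype G] {p : ℕ} {M : Ideal AlgInt}

/-- A block whose rank is the number of its characters is alone. -/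
theorem blockRank_lt [Fact p.Prime] (hM : IsPModular p M) {B : Set (IrrCharacter G)}
    (hB : IsPBlock M B) (h2 : 2 ≤ Nat.card B) : blockRank p B < Nat.card B := by
  classical
  have hp : p.Prime := Fact.out
  have hP : M.IsPrime := hM.2.1.isPrime
  have hfin : Finite (IrrCharacter G) := Characters.Core.finite_irr
  have := Fintype.ofFinite (IrrCharacter G)
  have := Fintype.ofFinite B
  -- `[ψ⁰, ψ] ≤ 1`
  have hex : ∀ ψ : IrrCharacter G, ∃ n : ℤ, ((p ^ blockDefect p B : ℕ) : ℂ) *
      (if ψ ∈ B then classInner (pRegularPart p (ψ : G → ℂ)) (ψ : G → ℂ) else 0) = n := by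
    intro ψ
    by_cases hψ : ψ ∈ B
    · rw [if_pos hψ]
      exact exists_int_pow_defect hM hψ ψ
    · rw [if_neg hψ]
      exact ⟨0, by simp⟩
  choose n hn using hex
  have hn' : ∀ ψ ∈ B, ((p ^ blockDefect p B : ℕ) : ℂ) *
      classInner (pRegularPart p (ψ : G → ℂ)) (ψ : G → ℂ) = n ψ := by
    intro ψ hψ
    rw [← hn ψ, if_pos hψ]
  have hle : ∀ ψ ∈ B, n ψ ≤ (p : ℤ) ^ blockDefect p B := by
    intro ψ hψ
    have h1 := sum_sq hM hB hψ
    have hex2 : ∀ θ : IrrCharacter G, ∃ k : ℤ, ((p ^ blockDefect p B : ℕ) : ℂ) *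
      classInner (pRegularPart p (ψ : G → ℂ)) (θ : G → ℂ) = k := fun θ =>
        exists_int_pow_defect hM hψ θ
    choose k hk using hex2
    have h3 : (∑ θ : IrrCharacter G with θ ∈ B, k θ ^ 2 : ℤ) =
        (p : ℤ) ^ blockDefect p B * n ψ := by
      have h4 : ((∑ θ : IrrCharacter G with θ ∈ B, k θ ^ 2 : ℤ) : ℂ) =
          (((p : ℤ) ^ blockDefect p B * n ψ : ℤ) : ℂ) := by
        push_cast
        rw [← hn' ψ hψ, ← h1]
        push_cast
        rw [← mul_assoc, ← sq, Finset.mul_sum]
        refine Finset.sum_congr rfl fun θ _ => ?_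
        rw [← hk θ]
        push_cast
        ring
      exact_mod_cast h4
    have h5 : k ψ = n ψ := by
      have : (k ψ : ℂ) = n ψ := by rw [← hk ψ, hn' ψ hψ]
      exact_mod_cast this
    have h6 : k ψ ^ 2 ≤ ∑ θ : IrrCharacter G with θ ∈ B, k θ ^ 2 :=
      Finset.single_le_sum (f := fun θ => k θ ^ 2) (fun _ _ => sq_nonneg _) (by simpa using hψ)
    rw [h3, h5] at h6
    have hpos : (0 : ℤ) < (p : ℤ) ^ blockDefect p B := by
      have : (0 : ℤ) < p := by exact_mod_cast hp.pos
      positivity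
    by_contra hcon
    push Not at hcon
    nlinarith
  obtain ⟨χ, hχ, h0⟩ := exists_height_zero (p := p) hB
  -- a height zero character with `[χ⁰, χ] < 1`
  have hlt : n χ < (p : ℤ) ^ blockDefect p B := by
    refine lt_of_le_of_ne (hle χ hχ) ?_
    intro heq
    obtain ⟨k, hk, hk1, hk2⟩ := exists_int_height hM hB hχ h0 hχ
    have hkn : k = n χ := by
      have : (k : ℂ) = n χ := by rw [← hk, hn' χ hχ]
      exact_mod_cast this
    rw [h0, zero_add, pow_one, hkn, heq] at hk2
    have hd0 : blockDefect p B = 0 := by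
      by_contra hd
      exact hk2 (dvd_pow_self _ hd)
    have hbf := brauer_feit hM hB
    rw [hd0, mul_zero, pow_zero, finsum_mem_filter] at hbf
    have h7 : ∑ ψ : IrrCharacter G with ψ ∈ B, 1 ≤
        ∑ ψ : IrrCharacter G with ψ ∈ B, p ^ (2 * blockHeight p B (ψ : G → ℂ)) :=
      Finset.sum_le_sum fun ψ _ => Nat.one_le_pow _ _ hp.pos
    have h8 : ∑ ψ : IrrCharacter G with ψ ∈ B, 1 = Nat.card B := by
      rw [Finset.sum_const, smul_eq_mul, mul_one, Nat.card_eq_fintype_card,
        Fintype.card_subtype]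
    omega
  have hsum := blockRank_eq_sum hM hB
  have h9 : (p : ℤ) ^ blockDefect p B * blockRank p B =
      ∑ ψ : IrrCharacter G with ψ ∈ B, n ψ := by
    have h10 : (((p : ℤ) ^ blockDefect p B * blockRank p B : ℤ) : ℂ) =
        ((∑ ψ : IrrCharacter G with ψ ∈ B, n ψ : ℤ) : ℂ) := by
      push_cast
      rw [hsum, Finset.mul_sum]
      refine Finset.sum_congr rfl fun ψ hψ => ?_
      rw [← hn' ψ (by simpa using hψ)]
      push_cast
      ring
    exact_mod_cast h10
  have h11 : ∑ ψ : IrrCharacter G with ψ ∈ B, n ψ <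
      ∑ ψ : IrrCharacter G with ψ ∈ B, (p : ℤ) ^ blockDefect p B :=
    Finset.sum_lt_sum (fun ψ hψ => hle ψ (by simpa using hψ)) ⟨χ, by simpa using hχ, hlt⟩
  rw [← h9, Finset.sum_const, nsmul_eq_mul] at h11
  have h12 : (Finset.univ.filter (· ∈ B) : Finset (IrrCharacter G)).card = Nat.card B := by
    rw [Nat.card_eq_fintype_card, Fintype.card_subtype]
  rw [h12, mul_comm] at h11
  have hpos : (0 : ℤ) < (p : ℤ) ^ blockDefect p B := by
    have : (0 : ℤ) < p := by exact_mod_cast hp.pos
    positivity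
  have h13 := lt_of_mul_lt_mul_right h11 hpos.le
  exact_mod_cast h13

theorem blockRank_pos [Fact p.Prime] (hM : IsPModular p M) {B : Set (IrrCharacter G)}
    (hB : IsPBlock M B) : 0 < blockRank p B := by
  have hP : M.IsPrime := hM.2.1.isPrime
  obtain ⟨χ, hχ⟩ := Blocks.Basic.isPBlock_nonempty hB
  rw [blockRank_eq_finrank]
  have : FiniteDimensional ℂ (G → ℂ) := inferInstance
  refine Module.finrank_pos_iff_exists_ne_zero.2
    ⟨⟨pRegularPart p (χ : G → ℂ), pRegularPart_mem_regSpan hχ⟩, ?_⟩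
  intro h
  have h1 := congrArg (fun f : regSpan p B => (f : G → ℂ) 1) h
  simp only [H632.Numbers.pRegularPart_one] at h1
  exact Characters.Core.isIrr_apply_one_ne_zero χ.2 h1

end


end Cfsg.Agent.H632.TwoChars
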