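import Mathlib
import Cfsg.Agent.H642.F1
import Cfsg.Agent.H639.Klein
import Cfsg.Agent.H613.SubFus
import Cfsg.Agent.H658.Domin
import Cfsg.Agent.SmallSimple.KleinFourAut

/-!
# 2-blocks with abelian defect groups of order at most eight

* `odd_rank`: if the defect groups have order 1, 2 or 4 then `l(B)` is odd;
* `parity`: if the defect groups are abelian of order 8 then `k(B) - l(B)` is odd.
-/

set_option autoImplicit false

open Cfsg

namespace Cfsg.Agent.H632.AbelEight

open Cfsg.Agent.Blocks.Local Cfsg.Agent.Characters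
open Cfsg.Agent.H639 Cfsg.Agent.H649 Cfsg.Agent.H651
open Cfsg.Agent.H613.SubSys Cfsg.Agent.H613.SubFus
open Cfsg.Agent.H644 (pairStab isMaximalBrauerPair_of_isDefectGroup
  isDefectGroup_of_isMaximalBrauerPair)
open Cfsg.Agent.H644.CentralQuot (defl blockRank_defl isPBlock_defl)
open Cfsg.Agent.Blocks.Basic (isPBlock_blockOf mem_blockOf_self isPBlock_eq_blockOf
  isPBlock_eq_of_mem isPBlock_nonempty)

universe u

/-- The number of orbits of a group of odd order has the parity of the order of the set. -/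
theorem odd_orbits {E X : Type*} [Group E] [Finite E] [MulAction E X] [Finite X]
    (hE : Odd (Nat.card E)) :
    (Odd (Nat.card X) ↔ Odd (Nat.card (MulAction.orbitRel.Quotient E X))) := by
  classical
  have hfin : Finite (MulAction.orbitRel.Quotient E X) := Quotient.finite _
  have := Fintype.ofFinite (MulAction.orbitRel.Quotient E X)
  have h1 : Nat.card X = ∑ ω : MulAction.orbitRel.Quotient E X,
      Nat.card (MulAction.orbit E ω.out) := by
    rw [Nat.card_congr (MulAction.selfEquivSigmaOrbits E X), Nat.card_sigma]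
  have h2 : ∀ ω : MulAction.orbitRel.Quotient E X, Nat.card (MulAction.orbit E ω.out) % 2 = 1 := by
    intro ω
    rw [← Nat.odd_iff]
    apply Odd.of_dvd_nat hE
    rw [Nat.card_congr (MulAction.orbitEquivQuotientStabilizer E ω.out)]
    exact Subgroup.card_quotient_dvd_card _
  rw [Nat.odd_iff, Nat.odd_iff, h1, Finset.sum_nat_mod, Finset.sum_congr rfl fun ω _ => h2 ω,
    Finset.sum_const, Finset.card_univ, smul_eq_mul, mul_one, Nat.card_eq_fintype_card]

section pair

variable {G : Type u} [Group G] [Fintype G] {p : ℕ} [Fact p.Prime] {M : Ideal AlgInt}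
  [M.IsPrime] {B : Set (IrrCharacter G)} {a : BrauerPairIdx G}

/-- The inertial quotient has order prime to `p`. -/
theorem not_dvd_card_inQ (hM : IsPModular p M) (hmax : IsMaximalBrauerPair p M B a.1 a.2)
    (hab : ∀ x ∈ a.1, ∀ y ∈ a.1, x * y = y * x) : ¬ p ∣ Nat.card (inQ a) := by
  obtain ⟨P, e⟩ := a
  obtain ⟨c', hs⟩ := Sys.exists hM hmax hab
  have hD : IsDefectGroup p M B P := isDefectGroup_of_isMaximalBrauerPair hM hmax
  have hc : IsInducedBlock M (Subgroup.centralizer (P : Set G)) e B :=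
    (isBrauerPairOf_iff_isInducedBlock hM hmax.1.2.1 hmax.1.1.1 hmax.1.1.2).1 hmax.1
  have h1 := not_dvd_relIndex' hM hD hab hc (T := stabT ⟨P, e⟩)
    (fun g => mem_stabT_iff hM hc.1)
  rwa [card_inQ hs]

/-- The case of a trivial inertial quotient. -/
theorem rank_eq_one (hM : IsPModular p M) (hmax : IsMaximalBrauerPair p M B a.1 a.2)
    (hab : ∀ x ∈ a.1, ∀ y ∈ a.1, x * y = y * x) (h1 : Nat.card (inQ a) = 1) :
    blockRank p B = 1 ∧ Nat.card B = Nat.card a.1 := by
  obtain ⟨P, e⟩ := a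
  have hD : IsDefectGroup p M B P := isDefectGroup_of_isMaximalBrauerPair hM hmax
  have hstab : pairStab M P e ≤ Subgroup.centralizer (P : Set G) := by
    intro x hx
    have h2 := (Cfsg.Agent.H644.mem_pairStab_iff_stabilizesBlock hM hmax.1.1.2).1 hx
    have h3 : x ∈ stabT (⟨P, e⟩ : BrauerPairIdx G) := (mem_stabT_iff hM hmax.1.1.2).2 h2
    have h4 : autHom (⟨P, e⟩ : BrauerPairIdx G) ⟨x, h3⟩ = 1 := by
      have h5 : (⟨autHom (⟨P, e⟩ : BrauerPairIdx G) ⟨x, h3⟩, ⟨x, h3⟩, rfl⟩ :
          inQ (⟨P, e⟩ : BrauerPairIdx G)) = 1 := by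
        have h6 : Subsingleton (inQ (⟨P, e⟩ : BrauerPairIdx G)) :=
          (Nat.card_eq_one_iff_unique.1 h1).1
        exact Subsingleton.elim _ _
      exact congrArg Subtype.val h5
    exact (mem_ker_autHom (a := (⟨P, e⟩ : BrauerPairIdx G)) ⟨x, h3⟩).1 h4
  have h2 := Cfsg.Agent.H642.F1.data hM hmax.1 hD hab hstab
  exact ⟨h2.2.1, h2.2.2.1⟩

/-- Fusion control. -/
theorem exists_stabT_of_fus (hM : IsPModular p M) (hmax : IsMaximalBrauerPair p M B a.1 a.2)
    (hab : ∀ x ∈ a.1, ∀ y ∈ a.1, x * y = y * x) {u v : G} (hu : u ∈ a.1) (hv : v ∈ a.1)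
    (h : Fus p M a u v) : ∃ t ∈ stabT a, t * u * t⁻¹ = v := by
  have ha : IsBrauerPair p M a.1 a.2 := hmax.1.1
  obtain ⟨x, hx1, hx2⟩ := h
  have h1 : LEIdx p M (bel p M a v) a := bel_le hM ha hv
  have h2 : LEIdx p M (bel p M a v) (conjIdx x a) := by
    rw [← hx2]
    exact (leIdx_conjIdx_iff x).2 (bel_le hM ha hu)
  obtain ⟨y, hy, hya⟩ := exists_conj_of_le hM hmax hab h1 h2
  refine ⟨y * x, ?_, ?_⟩
  · rw [mem_stabT, ← conjIdx_conjIdx]
    exact hya
  · rw [bel_fst, Subgroup.mem_centralizer_iff] at hy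
    have h3 := hy v (Subgroup.mem_zpowers v)
    have h4 : y * x * u * (y * x)⁻¹ = y * (x * u * x⁻¹) * y⁻¹ := by group
    rw [h4, hx1, ← h3, mul_inv_cancel_right]

/-- The defect group of the block below a maximal pair. -/
theorem isDefectGroup_bel (hM : IsPModular p M) (hmax : IsMaximalBrauerPair p M B a.1 a.2)
    (hab : ∀ x ∈ a.1, ∀ y ∈ a.1, x * y = y * x) {u : G} (hu : u ∈ a.1) :
    ∃ f : Set (IrrCharacter (Subgroup.centralizer ((Subgroup.zpowers u : Subgroup G) : Set G))),
      bel p M a u = ⟨Subgroup.zpowers u, f⟩ ∧ IsPBlock M f ∧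
      IsDefectGroup p M f
        (a.1.subgroupOf (Subgroup.centralizer ((Subgroup.zpowers u : Subgroup G) : Set G))) := by
  obtain ⟨c, hs⟩ := Sys.exists hM hmax hab
  have hle : Subgroup.zpowers u ≤ a.1 := by rwa [Subgroup.zpowers_le]
  have h1 : (⟨Subgroup.zpowers u, c (Subgroup.zpowers u)⟩ : BrauerPairIdx G) = bel p M a u :=
    eq_bel hM hmax.1.1 rfl (hs.hle _ hle)
  refine ⟨c (Subgroup.zpowers u), h1.symm, ?_, hs.exists_defectGroup hle⟩
  have h2 := isPBlock_bel hM hmax.1.1 hu
  rw [← h1] at h2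
  exact h2

end pair

section two

variable {G : Type u} [Group G] [Finite G] {M : Ideal AlgInt} {B : Set (IrrCharacter G)}

/-- The rank of a 2-block with defect groups of order 1, 2 or 4 is odd. -/
theorem odd_rank (hM : IsPModular 2 M) (hB : IsPBlock M B) {D : Subgroup G}
    (hD : IsDefectGroup 2 M B D) (h4 : Nat.card D ∣ 4) : Odd (blockRank 2 B) := by
  have := Fintype.ofFinite G
  have : M.IsPrime := isPrime_of_isPModular hM
  obtain ⟨e, he⟩ := Cfsg.Agent.H644.exists_pair_of_le_isDefectGroup hM hB hD le_rfl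
  have hmax := isMaximalBrauerPair_of_isDefectGroup hM he hD
  by_cases hcyc : IsCyclic D
  · have hab : ∀ x ∈ (⟨D, e⟩ : BrauerPairIdx G).1, ∀ y ∈ (⟨D, e⟩ : BrauerPairIdx G).1,
        x * y = y * x := by
      intro x hx y hy
      have := (IsCyclic.commGroup (α := D)).mul_comm ⟨x, hx⟩ ⟨y, hy⟩
      exact congrArg Subtype.val this
    have h1 := not_dvd_card_inQ (a := ⟨D, e⟩) hM hmax hab
    have h2 : Nat.card (inQ (⟨D, e⟩ : BrauerPairIdx G)) ∣ Nat.card (MulAut D) :=
      Subgroup.card_subgroup_dvd_card _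
    rw [IsCyclic.card_mulAut] at h2
    have h3 : Nat.totient (Nat.card D) ∣ 2 := by
      have h5 : Nat.card D ≤ 4 := Nat.le_of_dvd (by norm_num) h4
      interval_cases Nat.card D <;> revert h4 <;> decide
    have h5 : Nat.card (inQ (⟨D, e⟩ : BrauerPairIdx G)) = 1 := by
      rcases (Nat.dvd_prime Nat.prime_two).1 (h2.trans h3) with h6 | h6
      · exact h6
      · rw [h6] at h1
        exact absurd (dvd_refl 2) h1
    rw [(rank_eq_one (a := ⟨D, e⟩) hM hmax hab h5).1]
    exact odd_one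
  · have hD4 : Nat.card D = 4 := by
      have h5 : Nat.card D ≤ 4 := Nat.le_of_dvd (by norm_num) h4
      have h6 : Nat.card D ≠ 1 := by
        intro h6
        apply hcyc
        have : Subsingleton D := (Nat.card_eq_one_iff_unique.1 h6).1
        infer_instance
      have h7 : Nat.card D ≠ 2 := fun h7 => hcyc (isCyclic_of_prime_card (p := 2) h7)
      have h8 : Nat.card D ≠ 3 := by
        intro h8
        rw [h8] at h4
        revert h4
        decide
      have h9 : 0 < Nat.card D := Nat.card_pos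
      omega
    have hV := SmallSimple.KleinFourAut.isKleinFour_of_not_isCyclic hD4 hcyc
    have hc : IsInducedBlock M (Subgroup.centralizer (D : Set G)) e B :=
      (isBrauerPairOf_iff_isInducedBlock hM hB he.1.1 he.1.2).1 he
    obtain ⟨c', ζ, hF⟩ := klein_full hM hD hV hc
    obtain ⟨h1, -, h3, -⟩ := klein_main hF hV
    rw [h3]
    rcases h1 with h1 | h1 <;> rw [h1] <;> decide

/-- The rank of a block with defect groups of order eight and a nontrivial central 2-element. -/
theorem odd_rank_of_central (hM : IsPModular 2 M) (hB : IsPBlock M B) {D : Subgroup G}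
    (hD : IsDefectGroup 2 M B D) (h8 : Nat.card D = 8) {u : G} (hu : u ∈ D) (hu1 : u ≠ 1)
    (huc : u ∈ Subgroup.center G) : Odd (blockRank 2 B) := by
  have := Fintype.ofFinite G
  have : M.IsPrime := isPrime_of_isPModular hM
  set U : Subgroup G := Subgroup.zpowers u with hU
  have hUc : U ≤ Subgroup.center G := by
    rw [hU, Subgroup.zpowers_le]
    exact huc
  have hUn : U.Normal := ⟨fun n hn g => by
    have h1 := Subgroup.mem_center_iff.1 (hUc hn) g
    rw [h1, mul_inv_cancel_right]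
    exact hn⟩
  have hUD : U ≤ D := by
    rw [hU, Subgroup.zpowers_le]
    exact hu
  have hUp : IsPGroup 2 U := (Cfsg.Agent.H641.isPGroup_of_isDefectGroup hD).to_le hUD
  have h2 := Cfsg.Agent.H658.isDefectGroup_defl hM hUc hUp hB hD
  rw [← blockRank_defl hM hUc hUp hB]
  refine odd_rank hM (isPBlock_defl hM hUc hUp hB) h2.2 ?_
  -- the order of the quotient
  have h3 : Nat.card (D.map (QuotientGroup.mk' U)) = U.relIndex D := by
    rw [← Subgroup.relIndex_ker, QuotientGroup.ker_mk']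
  have h5 : Nat.card U * U.relIndex D = 8 := by
    rw [← h8, Subgroup.relIndex, ← Subgroup.card_mul_index (U.subgroupOf D),
      Nat.card_congr (Subgroup.subgroupOfEquivOfLe hUD).toEquiv]
  have h6 : Nat.card U ≠ 1 := by
    intro h6
    rw [hU, Nat.card_zpowers, orderOf_eq_one_iff] at h6
    exact hu1 h6
  rw [h3]
  have h7 : Nat.card U ∣ 8 := ⟨_, h5.symm⟩
  have h9 : Nat.card U ≤ 8 := Nat.le_of_dvd (by norm_num) h7
  generalize Nat.card U = n at *
  generalize U.relIndex D = k at *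
  interval_cases n
  · omega
  · exact absurd rfl h6
  · exact ⟨1, by omega⟩
  · omega
  · exact ⟨2, by omega⟩
  · omega
  · omega
  · omega
  · exact ⟨4, by omega⟩

/-- The rank of a nontrivial subsection. -/
theorem odd_rank_bel {G : Type u} [Group G] [Fintype G] {M : Ideal AlgInt} [M.IsPrime]
    {B : Set (IrrCharacter G)} (hM : IsPModular 2 M) {a : BrauerPairIdx G}
    (hmax : IsMaximalBrauerPair 2 M B a.1 a.2)
    (hab : ∀ x ∈ a.1, ∀ y ∈ a.1, x * y = y * x) (h8 : Nat.card a.1 = 8) {u : G} (hu : u ∈ a.1)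
    (hu1 : u ≠ 1) : Odd (blockRank 2 (bel 2 M a u).2) := by
  obtain ⟨f, hf, hfB, hfD⟩ := isDefectGroup_bel hM hmax hab hu
  rw [hf]
  have hle : a.1 ≤ Subgroup.centralizer ((Subgroup.zpowers u : Subgroup G) : Set G) := by
    intro x hx
    rw [Subgroup.mem_centralizer_iff]
    rintro _ ⟨k, rfl⟩
    have h1 : Commute u x := hab u hu x hx
    exact (h1.zpow_left k).eq
  refine odd_rank_of_central hM hfB hfD ?_ (u := ⟨u, hle hu⟩) ?_ ?_ ?_
  · rw [Nat.card_congr (Subgroup.subgroupOfEquivOfLe hle).toEquiv, h8]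
  · rw [Subgroup.mem_subgroupOf]
    exact hu
  · intro h
    exact hu1 (congrArg Subtype.val h)
  · rw [Subgroup.mem_center_iff]
    intro g
    apply Subtype.ext
    have := Subgroup.mem_centralizer_iff.1 g.2 u (Subgroup.mem_zpowers u)
    exact this.symm

/-- The action of the inertial quotient on the nontrivial elements. -/
@[reducible] def actNe {P : Type*} [Group P] (E : Subgroup (MulAut P)) :
    MulAction E {v : P // v ≠ 1} where
  smul e v := ⟨(e : MulAut P) v.1, fun h => v.2 ((map_eq_one_iff _ (e : MulAut P).injective).1 h)⟩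
  one_smul _ := Subtype.ext rfl
  mul_smul _ _ _ := Subtype.ext rfl

/-- **Parity.** -/
theorem parity (hM : IsPModular 2 M) (hB : IsPBlock M B) {D : Subgroup G}
    (hD : IsDefectGroup 2 M B D) (h8 : Nat.card D = 8) (hDab : ∀ x ∈ D, ∀ y ∈ D, x * y = y * x) :
    ∃ n, Odd n ∧ Nat.card B = blockRank 2 B + n := by
  have := Fintype.ofFinite G
  have : M.IsPrime := isPrime_of_isPModular hM
  obtain ⟨e, he⟩ := Cfsg.Agent.H644.exists_pair_of_le_isDefectGroup hM hB hD le_rfl
  have hmax0 := isMaximalBrauerPair_of_isDefectGroup hM he hD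
  obtain ⟨a, ha1, hmax⟩ : ∃ a : BrauerPairIdx G, a.1 = D ∧ IsMaximalBrauerPair 2 M B a.1 a.2 :=
    ⟨⟨D, e⟩, rfl, hmax0⟩
  rw [← ha1] at h8 hDab
  have ha : IsBrauerPair 2 M a.1 a.2 := hmax.1.1
  have hodd : Odd (Nat.card (inQ a)) := by
    have := not_dvd_card_inQ hM hmax hDab
    rwa [← Nat.not_even_iff_odd, even_iff_two_dvd]
  let act : MulAction (inQ a) {v : a.1 // v ≠ 1} := actNe (inQ a)
  have hact : ∀ (τ : inQ a) (v : {v : a.1 // v ≠ 1}),
      ((τ • v : {v : a.1 // v ≠ 1}) : a.1) = (τ : MulAut a.1) v := fun _ _ => rfl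
  have hX : Nat.card {v : a.1 // v ≠ 1} = 7 := by
    classical
    have h1 := Nat.card_congr (Equiv.sumCompl fun v : a.1 => v = 1)
    rw [Nat.card_sum, h8] at h1
    have h2 : Nat.card {v : a.1 // v = 1} = 1 := by
      rw [Nat.card_eq_one_iff_unique]
      exact ⟨⟨fun x y => Subtype.ext (x.2.trans y.2.symm)⟩, ⟨⟨1, rfl⟩⟩⟩
    rw [h2] at h1
    have h3 : Nat.card {v : a.1 // v ≠ 1} = Nat.card {v : a.1 // ¬ v = 1} := rfl
    omega
  have hor := (odd_orbits (E := inQ a) (X := {v : a.1 // v ≠ 1}) hodd).1 (by rw [hX]; decide)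
  set ι := MulAction.orbitRel.Quotient (inQ a) {v : a.1 // v ≠ 1} with hι
  have hfin : Finite ι := Quotient.finite _
  have hft := Fintype.ofFinite ι
  let r : ι → G := fun i => ((i.out : {v : a.1 // v ≠ 1}) : a.1)
  have hr : ∀ i, r i ∈ a.1 := fun i => (i.out : {v : a.1 // v ≠ 1}).1.2
  have hr1 : ∀ i, r i ≠ 1 := fun i h => (i.out : {v : a.1 // v ≠ 1}).2 (Subtype.ext h)
  have hsys : IsSys 2 M B r (fun i => bel 2 M a (r i)) := by
    refine isSys_of_reps hM hmax r hr hr1 ?_ ?_
    · intro i j hij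
      obtain ⟨t, ht, htr⟩ := exists_stabT_of_fus hM hmax hDab (hr i) (hr j) hij
      have h1 : MulAction.orbitRel (inQ a) {v : a.1 // v ≠ 1} j.out i.out := by
        rw [MulAction.orbitRel_apply, MulAction.mem_orbit_iff]
        refine ⟨⟨autHom a ⟨t, ht⟩, ⟨t, ht⟩, rfl⟩, ?_⟩
        apply Subtype.ext
        rw [hact]
        apply Subtype.ext
        exact htr
      have h2 := Quotient.sound (s := MulAction.orbitRel (inQ a) {v : a.1 // v ≠ 1}) h1
      rw [Quotient.out_eq, Quotient.out_eq] at h2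
      exact h2.symm
    · intro v hv hv1
      let x : {v : a.1 // v ≠ 1} := ⟨⟨v, hv⟩, fun h => hv1 (congrArg Subtype.val h)⟩
      let i : ι := Quotient.mk (MulAction.orbitRel (inQ a) {v : a.1 // v ≠ 1}) x
      have h1 : MulAction.orbitRel (inQ a) {v : a.1 // v ≠ 1} i.out x :=
        Quotient.exact (s := MulAction.orbitRel (inQ a) {v : a.1 // v ≠ 1}) (Quotient.out_eq i)
      rw [MulAction.orbitRel_apply, MulAction.mem_orbit_iff] at h1
      obtain ⟨⟨_, t, rfl⟩, ht⟩ := h1
      refine ⟨i, Fus.symm ⟨(t : G), ?_, ?_⟩⟩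
      · have := congrArg (fun z : {v : a.1 // v ≠ 1} => ((z : a.1) : G)) ht
        exact this
      · have h3 : (t : G) * v * (t : G)⁻¹ = r i :=
          congrArg (fun z : {v : a.1 // v ≠ 1} => ((z : a.1) : G)) ht
        rw [conjIdx_bel hM ha t.2 hv, h3]
  refine ⟨∑ i, blockRank 2 (bel 2 M a (r i)).2, ?_, hsys.card_eq hM hB⟩
  rw [Nat.odd_iff, Finset.sum_nat_mod, Finset.sum_congr rfl fun i _ =>
    Nat.odd_iff.1 (odd_rank_bel hM hmax hDab h8 (hr i) (hr1 i)), Finset.sum_const,
    Finset.card_univ, smul_eq_mul, mul_one, ← Nat.odd_iff, ← Nat.card_eq_fintype_card]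
  exact hor

/-- A block with `k = 5`, `l = 1` has no abelian defect group of order eight. -/
theorem main {p : ℕ} [Fact p.Prime] (hM : IsPModular p M) (hB : IsPBlock M B) {D : Subgroup G}
    (hD : IsDefectGroup p M B D) (hk : Nat.card B = 5) (hl : blockRank p B = 1)
    (h8 : Nat.card D = 8) : ¬ IsMulCommutative D := by
  intro hcomm
  have hp : p = 2 := by
    have hMp : M.IsPrime := isPrime_of_isPModular hM
    have h1 : IsPGroup p D := Cfsg.Agent.H641.isPGroup_of_isDefectGroup hD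
    obtain ⟨n, hn⟩ := IsPGroup.iff_card.1 h1
    rw [h8] at hn
    have h2 : p ∣ 2 ^ 3 := by
      have h3 : n ≠ 0 := by
        rintro rfl
        rw [pow_zero] at hn
        omega
      rw [show (2 ^ 3 : ℕ) = 8 by norm_num, hn]
      exact dvd_pow_self p h3
    exact (Nat.prime_dvd_prime_iff_eq Fact.out Nat.prime_two).1
      ((Fact.out : p.Prime).dvd_of_dvd_pow h2)
  subst hp
  obtain ⟨n, hn, h1⟩ := parity hM hB hD h8 (fun x hx y hy =>
    congrArg Subtype.val (hcomm.is_comm.comm (⟨x, hx⟩ : D) ⟨y, hy⟩))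
  rw [hk, hl] at h1
  have : n = 4 := by omega
  rw [this] at hn
  revert hn
  decide

end two

end Cfsg.Agent.H632.AbelEight
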