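import Mathlib

/-!
# Matrix units: lifting modulo a nil ideal, and the centralizer

* `exists_lift`: matrix units lift along a surjective ring homomorphism with nil kernel.
* `cent E`: the centralizer of a system of matrix units `E` in a `K`-algebra `R` (a subalgebra `A`);
  `equiv`: `R ≃ I → I → A` as vector spaces, so `dim R = n ^ 2 * dim A` (`finrank_eq`);
  `centerEquiv`: `Z(A) ≃ Z(R)`.
-/

set_option autoImplicit false

namespace Cfsg.Agent.H632.MatUnits

/-- A system of matrix units. -/
structure MU {R : Type*} [Ring R] {I : Type*} [Fintype I] [DecidableEq I] (E : I → I → R) :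
    Prop where
  mul : ∀ i j k l, E i j * E k l = if j = k then E i l else 0
  sum : ∑ i, E i i = 1

section lift

variable {R S : Type*} [Ring R] [Ring S] {I : Type*} [Fintype I] [DecidableEq I]

theorem MU.mul_self {E : I → I → R} (h : MU E) (i j k : I) : E i j * E j k = E i k := by
  rw [h.mul, if_pos rfl]

theorem MU.mul_ne {E : I → I → R} (h : MU E) {i j k l : I} (hjk : j ≠ k) :
    E i j * E k l = 0 := by
  rw [h.mul, if_neg hjk]

/-- Left inverse in a corner. -/
theorem exists_corner_inv (f : R →+* S) (hk : ∀ x, f x = 0 → IsNilpotent x) {e w : R}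
    (he : e * e = e) (hew : e * w = w) (hwe : w * e = w) (hf : f w = f e) :
    ∃ t : R, t * w = e ∧ e * t = t ∧ f t = f e := by
  have hn : f (e - w) = 0 := by rw [map_sub, hf, sub_self]
  obtain ⟨N, hN⟩ := hk _ hn
  have hen : e * (e - w) = e - w := by rw [mul_sub, he, hew]
  have hne : (e - w) * e = e - w := by rw [sub_mul, he, hwe]
  refine ⟨e * ∑ k ∈ Finset.range N, (e - w) ^ k, ?_, ?_, ?_⟩
  · have h1 : w = (1 - (e - w)) * e := by rw [sub_mul, one_mul, hne]; abel
    have h2 : (∑ k ∈ Finset.range N, (e - w) ^ k) * (1 - (e - w)) = 1 := by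
      rw [geom_sum_mul_neg, hN, sub_zero]
    calc e * (∑ k ∈ Finset.range N, (e - w) ^ k) * w
        = e * ((∑ k ∈ Finset.range N, (e - w) ^ k) * ((1 - (e - w)) * e)) := by
          rw [mul_assoc, ← h1]
      _ = e := by rw [← mul_assoc (∑ k ∈ Finset.range N, (e - w) ^ k), h2, one_mul, he]
  · rw [← mul_assoc, he]
  · rcases Nat.eq_zero_or_pos N with h0 | h0
    · subst h0
      rw [pow_zero] at hN
      have : f e = f e * f 1 := by rw [map_one, mul_one]
      rw [map_mul, this, hN, map_zero, mul_zero, zero_mul]
    · obtain ⟨N, rfl⟩ := Nat.exists_eq_succ_of_ne_zero h0.ne'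
      have h1 : f (∑ k ∈ Finset.range (N + 1), (e - w) ^ k) = 1 := by
        rw [map_sum, Finset.sum_range_succ', pow_zero, map_one, Finset.sum_eq_zero, zero_add]
        intro k _
        rw [pow_succ, map_mul, hn, mul_zero]
      rw [map_mul, h1, mul_one]

/-- Matrix units lift along a surjective homomorphism with nil kernel. -/
theorem exists_lift (f : R →+* S) (hf : Function.Surjective f)
    (hk : ∀ x, f x = 0 → IsNilpotent x) {g : I → I → S} (hg : MU g) :
    ∃ E : I → I → R, MU E ∧ ∀ i j, f (E i j) = g i j := by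
  classical
  have hgc : CompleteOrthogonalIdempotents (fun i => g i i) := by
    refine ⟨⟨fun i => hg.mul_self i i i, fun i j hij => ?_⟩, hg.sum⟩
    exact hg.mul_ne hij
  obtain ⟨e, he, hfe'⟩ := CompleteOrthogonalIdempotents.lift_of_isNilpotent_ker f
    (fun x hx => hk x hx) hgc (fun i => hf _)
  have hfe : ∀ i, f (e i) = g i i := fun i => congrFun hfe' i
  have hee : ∀ i, e i * e i = e i := fun i => he.idem i
  have heo : ∀ i j, i ≠ j → e i * e j = 0 := fun i j hij => he.ortho hij
  rcases isEmpty_or_nonempty I with hI | ⟨⟨o⟩⟩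
  · refine ⟨fun i _ => isEmptyElim i, ⟨fun i => isEmptyElim i, ?_⟩, fun i => isEmptyElim i⟩
    have h1 := he.complete
    simp only [Finset.univ_eq_empty, Finset.sum_empty] at h1 ⊢
    exact h1
  have ha : ∀ i, ∃ a, f a = g i o := fun i => hf _
  have hb : ∀ i, ∃ b, f b = g o i := fun i => hf _
  choose a ha using ha
  choose b hb using hb
  let u : I → R := fun i => e i * a i * e o
  let v : I → R := fun i => e o * b i * e i
  have hfu : ∀ i, f (u i) = g i o := by
    intro i
    show f (e i * a i * e o) = _
    rw [map_mul, map_mul, ha, hfe, hfe, hg.mul_self, hg.mul_self]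
  have hfv : ∀ i, f (v i) = g o i := by
    intro i
    show f (e o * b i * e i) = _
    rw [map_mul, map_mul, hb, hfe, hfe, hg.mul_self, hg.mul_self]
  have heu : ∀ i, e i * u i = u i := by
    intro i
    show e i * (e i * a i * e o) = e i * a i * e o
    rw [mul_assoc (e i), ← mul_assoc (e i), hee]
  have hue : ∀ i, u i * e o = u i := by
    intro i
    show e i * a i * e o * e o = e i * a i * e o
    rw [mul_assoc, hee]
  have hev : ∀ i, e o * v i = v i := by
    intro i
    show e o * (e o * b i * e i) = e o * b i * e i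
    rw [mul_assoc (e o), ← mul_assoc (e o), hee]
  have hve : ∀ i, v i * e i = v i := by
    intro i
    show e o * b i * e i * e i = e o * b i * e i
    rw [mul_assoc, hee]
  have ht : ∀ i, ∃ t : R, t * (v i * u i) = e o ∧ e o * t = t ∧ f t = f (e o) := by
    intro i
    refine exists_corner_inv f hk (hee o) ?_ ?_ ?_
    · rw [← mul_assoc, hev]
    · rw [mul_assoc, hue]
    · rw [map_mul, hfu, hfv, hfe, hg.mul_self]
  choose t ht1 ht2 ht3 using ht
  let v' : I → R := fun i => t i * v i
  have hv'u : ∀ i, v' i * u i = e o := by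
    intro i
    show t i * v i * u i = e o
    rw [mul_assoc, ht1]
  have hev' : ∀ i, e o * v' i = v' i := by
    intro i
    show e o * (t i * v i) = t i * v i
    rw [← mul_assoc, ht2]
  have hv'e : ∀ i, v' i * e i = v' i := by
    intro i
    show t i * v i * e i = t i * v i
    rw [mul_assoc, hve]
  have hfv' : ∀ i, f (v' i) = g o i := by
    intro i
    show f (t i * v i) = _
    rw [map_mul, ht3, hfv, hfe, hg.mul_self]
  have hmul : ∀ i j k l, (u i * v' j) * (u k * v' l) = if j = k then u i * v' l else 0 := by
    intro i j k l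
    split_ifs with h
    · subst h
      rw [mul_assoc, ← mul_assoc (v' j), hv'u, hev']
    · have h1 : v' j * u k = 0 := by
        rw [← hv'e j, ← heu k, mul_assoc, ← mul_assoc (e j), heo j k h, zero_mul, mul_zero]
      rw [mul_assoc, ← mul_assoc (v' j), h1, zero_mul, mul_zero]
  refine ⟨fun i j => u i * v' j, ⟨hmul, ?_⟩, ?_⟩
  · have h1 : ∀ i, u i * v' i = e i := by
      intro i
      have h2 : f (e i - u i * v' i) = 0 := by
        rw [map_sub, map_mul, hfu, hfv', hfe, hg.mul_self, sub_self]
      have h3 : (e i - u i * v' i) * (e i - u i * v' i) = e i - u i * v' i := by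
        have h4 : e i * (u i * v' i) = u i * v' i := by rw [← mul_assoc, heu]
        have h5 : (u i * v' i) * e i = u i * v' i := by rw [mul_assoc, hv'e]
        have h6 : (u i * v' i) * (u i * v' i) = u i * v' i := by rw [hmul, if_pos rfl]
        rw [mul_sub, sub_mul, sub_mul, hee, h4, h5, h6, sub_self, sub_zero]
      obtain ⟨N, hN⟩ := hk _ h2
      have h7 : ∀ n : ℕ, (e i - u i * v' i) ^ (n + 1) = e i - u i * v' i := by
        intro n
        induction n with
        | zero => rw [zero_add, pow_one]
        | succ n ih => rw [pow_succ, ih, h3]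
      have h8 : e i - u i * v' i = 0 := by
        rw [← h7 N, pow_succ, hN, zero_mul]
      exact (sub_eq_zero.1 h8).symm
    rw [Finset.sum_congr rfl fun i _ => h1 i, he.complete]
  · intro i j
    rw [map_mul, hfu, hfv', hg.mul_self]

end lift

section cent

variable {K R : Type*} [Field K] [Ring R] [Algebra K R] {I : Type*} [Fintype I] [DecidableEq I]

/-- The centralizer of the matrix units. -/
def cent (K : Type*) {R : Type*} [Field K] [Ring R] [Algebra K R] {I : Type*} (E : I → I → R) :
    Subalgebra K R :=
  Subalgebra.centralizer K (Set.range fun x : I × I => E x.1 x.2)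

omit [Fintype I] [DecidableEq I] in
theorem mem_cent {E : I → I → R} {a : R} :
    a ∈ cent K E ↔ ∀ i j, E i j * a = a * E i j := by
  unfold cent
  rw [Subalgebra.mem_centralizer_iff]
  constructor
  · intro h i j
    exact h _ ⟨(i, j), rfl⟩
  · rintro h _ ⟨⟨i, j⟩, rfl⟩
    exact h i j

theorem coef_mem {E : I → I → R} (hE : MU E) (r : R) (i j : I) :
    ∑ k, E k i * r * E j k ∈ cent K E := by
  rw [mem_cent]
  intro a b
  rw [Finset.mul_sum, Finset.sum_mul, Finset.sum_eq_single b, Finset.sum_eq_single a]
  · rw [← mul_assoc, ← mul_assoc, hE.mul_self, mul_assoc (E a i * r), hE.mul_self]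
  · intro k _ hk
    rw [mul_assoc (E k i * r), hE.mul_ne hk, mul_zero]
  · intro h
    exact absurd (Finset.mem_univ _) h
  · intro k _ hk
    rw [← mul_assoc, ← mul_assoc, hE.mul_ne (Ne.symm hk), zero_mul, zero_mul]
  · intro h
    exact absurd (Finset.mem_univ _) h

theorem eq_sum {E : I → I → R} (hE : MU E) (r : R) :
    ∑ i, ∑ j, (∑ k, E k i * r * E j k) * E i j = r := by
  have h1 : ∀ i j, (∑ k, E k i * r * E j k) * E i j = E i i * r * E j j := by
    intro i j
    rw [Finset.sum_mul, Finset.sum_eq_single i]
    · rw [mul_assoc (E i i * r), hE.mul_self]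
    · intro k _ hk
      rw [mul_assoc (E k i * r), hE.mul_ne hk, mul_zero]
    · intro h
      exact absurd (Finset.mem_univ _) h
  simp only [h1]
  have h2 : ∀ i, ∑ j, E i i * r * E j j = E i i * r := by
    intro i
    rw [← Finset.mul_sum, hE.sum, mul_one]
  simp only [h2]
  rw [← Finset.sum_mul, hE.sum, one_mul]

theorem coef_sum {E : I → I → R} (hE : MU E) (a : I → I → R) (ha : ∀ i j, a i j ∈ cent K E)
    (i j : I) : ∑ k, E k i * (∑ i', ∑ j', a i' j' * E i' j') * E j k = a i j := by
  have h1 : ∀ k, E k i * (∑ i', ∑ j', a i' j' * E i' j') * E j k = a i j * E k k := by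
    intro k
    rw [Finset.mul_sum, Finset.sum_mul, Finset.sum_eq_single i]
    · rw [Finset.mul_sum, Finset.sum_mul, Finset.sum_eq_single j]
      · rw [← mul_assoc, (mem_cent.1 (ha i j)) k i, mul_assoc (a i j), hE.mul_self, mul_assoc,
          hE.mul_self]
      · intro j' _ hj'
        rw [← mul_assoc, mul_assoc (E k i * a i j'), hE.mul_ne hj', mul_zero]
      · intro h
        exact absurd (Finset.mem_univ _) h
    · intro i' _ hi'
      rw [Finset.mul_sum, Finset.sum_mul]
      apply Finset.sum_eq_zero
      intro j' _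
      rw [← mul_assoc, (mem_cent.1 (ha i' j')) k i, mul_assoc (a i' j'), hE.mul_ne (Ne.symm hi'),
        mul_zero, zero_mul]
    · intro h
      exact absurd (Finset.mem_univ _) h
  rw [Finset.sum_congr rfl fun k _ => h1 k, ← Finset.mul_sum, hE.sum, mul_one]

/-- `R` is the algebra of matrices over the centralizer of the matrix units (linear version). -/
noncomputable def equiv {E : I → I → R} (hE : MU E) : R ≃ₗ[K] (I → I → cent K E) where
  toFun r i j := ⟨∑ k, E k i * r * E j k, coef_mem hE r i j⟩
  map_add' r s := by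
    funext i j
    apply Subtype.ext
    simp only [mul_add, add_mul, Finset.sum_add_distrib, Pi.add_apply, Subalgebra.coe_add]
  map_smul' c r := by
    funext i j
    apply Subtype.ext
    simp only [mul_smul_comm, smul_mul_assoc, RingHom.id_apply, Pi.smul_apply,
      Subalgebra.coe_smul, Finset.smul_sum]
  invFun a := ∑ i, ∑ j, (a i j : R) * E i j
  left_inv r := eq_sum hE r
  right_inv a := by
    funext i j
    apply Subtype.ext
    exact coef_sum hE (fun i j => (a i j : R)) (fun i j => (a i j).2) i j

theorem finrank_eq [FiniteDimensional K R] {E : I → I → R} (hE : MU E) :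
    Module.finrank K R = Fintype.card I ^ 2 * Module.finrank K (cent K E) := by
  rw [(equiv (K := K) hE).finrank_eq, Module.finrank_pi_fintype]
  simp only [Module.finrank_pi_fintype, Finset.sum_const, Finset.card_univ, smul_eq_mul]
  ring

/-- The centre of `R` is the centre of the centralizer of the matrix units. -/
noncomputable def centerEquiv {E : I → I → R} (hE : MU E) :
    Subalgebra.center K R ≃ₗ[K] Subalgebra.center K (cent K E) where
  toFun z := ⟨⟨(z : R), mem_cent.2 fun i j => (Subalgebra.mem_center_iff.1 z.2 (E i j))⟩, by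
    rw [Subalgebra.mem_center_iff]
    intro b
    apply Subtype.ext
    exact Subalgebra.mem_center_iff.1 z.2 (b : R)⟩
  map_add' z w := rfl
  map_smul' c z := rfl
  invFun z := ⟨((z : cent K E) : R), by
    rw [Subalgebra.mem_center_iff]
    intro r
    rw [← eq_sum hE r, Finset.sum_mul, Finset.mul_sum]
    refine Finset.sum_congr rfl fun i _ => ?_
    rw [Finset.sum_mul, Finset.mul_sum]
    refine Finset.sum_congr rfl fun j _ => ?_
    have h1 := Subalgebra.mem_center_iff.1 z.2 ⟨_, coef_mem (K := K) hE r i j⟩
    have h2 : (∑ k, E k i * r * E j k) * ((z : cent K E) : R) =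
        ((z : cent K E) : R) * ∑ k, E k i * r * E j k := congrArg Subtype.val h1
    rw [mul_assoc, mem_cent.1 (z : cent K E).2 i j, ← mul_assoc, h2, mul_assoc]⟩
  left_inv z := rfl
  right_inv z := rfl

end cent

end Cfsg.Agent.H632.MatUnits
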