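import Mathlib
import Cfsg.Agent.H632.BlockDim
import Cfsg.Agent.H646.RegInner

/-!
# The simple components of a block algebra

* `exists_pi_matrix`: a finite-dimensional algebra over an algebraically closed field has a surjection
  onto a product of matrix algebras, with nil kernel;
* `card_le_blockRank`: the number of simple components of the block algebra of `B` is at most
  `blockRank p B`.
-/

set_option autoImplicit false

namespace Cfsg.Agent.H632.Simple

open Cfsg Module Cfsg.Agent.H644 Cfsg.Agent.Blocks.Local Cfsg.Agent.Blocks.ConvCentral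
open Cfsg.Agent.Blocks.MinMax Cfsg.Agent.H632.Factor Cfsg.Agent.H632.BlockDim
open Cfsg.Agent.Blocks.BlockRank Cfsg.Agent.H646.RegInner Cfsg.Agent.Blocks.PPart

section general

variable {K : Type*} [Field K] [IsAlgClosed K] (R : Type*) [Ring R] [Algebra K R]

theorem exists_pi_matrix [FiniteDimensional K R] :
    ∃ (t : ℕ) (d : Fin t → ℕ), (∀ i, NeZero (d i)) ∧
      ∃ φ : R →ₐ[K] (∀ i, Matrix (Fin (d i)) (Fin (d i)) K), Function.Surjective φ ∧
        ∀ x, φ x = 0 → IsNilpotent x := by
  have : IsArtinianRing R := IsArtinianRing.of_finite K R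
  have h1 : IsSemisimpleRing (R ⧸ Ring.jacobson R) := IsSemiprimaryRing.isSemisimpleRing
  obtain ⟨N, hN⟩ : IsNilpotent (Ring.jacobson R) := IsSemiprimaryRing.isNilpotent
  have h2 : FiniteDimensional K (R ⧸ Ring.jacobson R) :=
    Module.Finite.of_surjective (Ideal.Quotient.mkₐ K (Ring.jacobson R)).toLinearMap
      (Ideal.Quotient.mkₐ_surjective K _)
  obtain ⟨t, d, hd, ⟨e⟩⟩ := IsSemisimpleRing.exists_algEquiv_pi_matrix_of_isAlgClosed K
    (R ⧸ Ring.jacobson R)
  refine ⟨t, d, hd, e.toAlgHom.comp (Ideal.Quotient.mkₐ K (Ring.jacobson R)),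
    e.surjective.comp (Ideal.Quotient.mkₐ_surjective K _), ?_⟩
  intro x hx
  have h3 : e (Ideal.Quotient.mkₐ K (Ring.jacobson R) x) = 0 := hx
  rw [map_eq_zero_iff e e.injective, Ideal.Quotient.mkₐ_eq_mk,
    Ideal.Quotient.eq_zero_iff_mem] at h3
  refine ⟨N, ?_⟩
  have h4 := Ideal.pow_mem_pow h3 N
  rw [hN] at h4
  exact h4

end general

section main

variable {p : ℕ} {M : Ideal AlgInt} [M.IsPrime] {H : Type*} [Group H] [Finite H]

/-- The number of simple components of a block algebra is at most the rank of the block. -/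
theorem card_le_blockRank [Fact p.Prime] (hM : IsPModular p M) {B : Set (IrrCharacter H)}
    (hB : IsPBlock M B) {t : ℕ} (d : Fin t → ℕ) (hd : ∀ i, NeZero (d i))
    (φ : MonoidAlgebra (ResField M) H →ₐ[ResField M]
      (∀ i, Matrix (Fin (d i)) (Fin (d i)) (ResField M)))
    (hφ : Function.Surjective φ) (hφe : φ (idem M B) = 1) : t ≤ blockRank p B := by
  classical
  have := Fintype.ofFinite H
  have hchar : CharP (ResField M) p := charP_resField hM
  let ρ : ∀ i, Representation (ResField M) H (Fin (d i) → ResField M) := fun i =>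
    (Matrix.toLinAlgEquiv' (R := ResField M) (n := Fin (d i)) : _ →* _).comp
      ((Pi.evalMonoidHom (fun i => Matrix (Fin (d i)) (Fin (d i)) (ResField M)) i).comp
        ((φ : _ →* _).comp (MonoidAlgebra.of (ResField M) H)))
  let tr : Fin t → H → ResField M := fun i g =>
    Matrix.trace (φ (MonoidAlgebra.single g 1) i)
  have hρ : ∀ i g, LinearMap.trace (ResField M) _ (ρ i g) = tr i g := fun i g =>
    Matrix.trace_toLin'_eq _
  -- traces of arbitrary elements
  have htrx : ∀ i (x : MonoidAlgebra (ResField M) H), Matrix.trace (φ x i) =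
      ∑ g, x.coeff g * tr i g := by
    intro i x
    have h1 : x = ∑ g, x.coeff g • MonoidAlgebra.single g (1 : ResField M) := by
      refine ext_coeff fun y => ?_
      rw [MonoidAlgebra.coeff_sum, Finsupp.finsetSum_apply]
      simp only [MonoidAlgebra.coeff_smul, Finsupp.smul_apply, MonoidAlgebra.coeff_single,
        Finsupp.single_apply, smul_eq_mul, mul_ite, mul_one, mul_zero]
      rw [Finset.sum_ite_eq']
      simp
    conv_lhs => rw [h1]
    rw [map_sum, Finset.sum_apply, Matrix.trace_sum]
    refine Finset.sum_congr rfl fun g _ => ?_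
    rw [map_smul, Pi.smul_apply, Matrix.trace_smul, smul_eq_mul]
  -- class functions
  have htrc : ∀ i (g h : H), tr i (h * g * h⁻¹) = tr i g := by
    intro i g h
    rw [← hρ, ← hρ, map_mul, LinearMap.trace_mul_comm, ← map_mul]
    congr 2
    group
  -- independence on all elements
  have hind : ∀ c : Fin t → ResField M, (∀ g, ∑ i, c i * tr i g = 0) → ∀ i, c i = 0 := by
    intro c hc i
    have hd0 : 0 < d i := Nat.pos_of_ne_zero (hd i).out
    obtain ⟨x, hx⟩ := hφ (Pi.single i (Matrix.single ⟨0, hd0⟩ ⟨0, hd0⟩ 1))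
    have h1 : ∑ j, c j * Matrix.trace (φ x j) = 0 := by
      simp only [htrx, Finset.mul_sum]
      rw [Finset.sum_comm]
      refine Finset.sum_eq_zero fun g _ => ?_
      calc ∑ j, c j * (x.coeff g * tr j g) = x.coeff g * ∑ j, c j * tr j g := by
            rw [Finset.mul_sum]
            exact Finset.sum_congr rfl fun j _ => by ring
        _ = 0 := by rw [hc, mul_zero]
    rw [Finset.sum_eq_single i] at h1
    · rw [hx, Pi.single_eq_same, Matrix.trace_single_eq_same, mul_one] at h1
      exact h1
    · intro j _ hj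
      rw [hx, Pi.single_eq_of_ne hj, Matrix.trace_zero, mul_zero]
    · intro h
      exact absurd (Finset.mem_univ _) h
  -- lifts
  have hsec : ∀ x : ResField M, ∃ c : ℂ, MemLocalRing M c ∧ redC M c = x := by
    intro x
    obtain ⟨c, hc⟩ := red_surjective x
    exact ⟨c, c.2, by rw [redC_coe, hc]⟩
  choose s hsR hs using hsec
  let τ : Fin t → H → ℂ := fun i g => s (tr i g)
  have hτ : ∀ i, IsClassFunction H (τ i) := by
    intro i g h
    show s _ = s _
    rw [htrc]
  let θ : Fin t → H → ℂ := fun i => blockOp B (τ i)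
  have haR := memLocalRing_blockCoeff hM (isUnion_of_isPBlock hB)
  have hθR : ∀ i g, MemLocalRing M (θ i g) := by
    intro i g
    exact memLocalRing_sum fun h _ => memLocalRing_mul (haR h) (hsR _)
  have hθred : ∀ i g, redC M (θ i g) = tr i g := by
    intro i g
    show redC M (∑ h, blockCoeff B h * τ i (h * g)) = _
    rw [redC_sum fun h _ => memLocalRing_mul (haR h) (hsR _)]
    have h1 : ∀ h : H, redC M (blockCoeff B h * τ i (h * g)) =
        redC M (blockCoeff B h) * tr i (h * g) := by
      intro h
      rw [redC_mul (haR h) (hsR _), hs]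
    rw [Finset.sum_congr rfl fun h _ => h1 h]
    have h2 : tr i g = Matrix.trace (φ (idem M B * MonoidAlgebra.single g 1) i) := by
      rw [map_mul, hφe, one_mul]
    rw [h2, htrx]
    symm
    refine Fintype.sum_equiv (Equiv.mulRight g⁻¹) _ _ fun h => ?_
    rw [Equiv.coe_mulRight, MonoidAlgebra.coeff_mul_single_apply, mul_one, coeff_idem,
      inv_mul_cancel_right]
  have hθs : ∀ i, pRegularPart p (θ i) ∈
      Submodule.span ℂ ((fun χ : IrrCharacter H => pRegularPart p (χ : H → ℂ)) '' B) := by
    intro i
    have h1 := blockOp_mem_span B (hτ i)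
    have h2 := Submodule.mem_map_of_mem (f := regMap p H) h1
    rw [Submodule.map_span, ← Set.image_comp] at h2
    exact h2
  -- independence of the regular parts
  have hli : LinearIndependent (ResField M)
      (fun (i : Fin t) (g : H) => redC M (pRegularPart p (θ i) g)) := by
    rw [Fintype.linearIndependent_iff]
    intro c hc
    apply hind
    intro g
    obtain ⟨y, hy, hgy⟩ : ∃ y : H, ¬ p ∣ orderOf y ∧ ∀ i, tr i g = tr i y := by
      obtain ⟨x, y, hxyg, hcomm, ⟨k, hk⟩, hy⟩ := exists_isPPart p g
      refine ⟨y, hy, fun i => ?_⟩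
      rw [← hρ, ← hρ, ← hxyg]
      exact Cfsg.Agent.Blocks.ModularTraces.trace_eq_of_commute p (ρ i) hcomm (k := k)
        (by rw [← hk, pow_orderOf_eq_one])
    have h1 := congrFun hc y
    rw [Finset.sum_apply] at h1
    refine Eq.trans (Finset.sum_congr rfl fun i _ => ?_) h1
    rw [Pi.smul_apply, smul_eq_mul, pRegularPart_of_not_dvd hy, hθred, hgy]
  have hliC : LinearIndependent ℂ (fun i => pRegularPart p (θ i)) := by
    apply linearIndependent_of_redC (M := M) _ _ hli
    intro i g
    rw [pRegularPart_apply]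
    split_ifs
    · exact memLocalRing_zero
    · exact hθR i g
  let W := Submodule.span ℂ ((fun χ : IrrCharacter H => pRegularPart p (χ : H → ℂ)) '' B)
  let w : Fin t → W := fun i => ⟨pRegularPart p (θ i), hθs i⟩
  have hw : LinearIndependent ℂ w := LinearIndependent.of_comp W.subtype hliC
  have h1 := hw.fintype_card_le_finrank
  rw [Fintype.card_fin] at h1
  exact h1

end main

end Cfsg.Agent.H632.Simple
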