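import Mathlib

/-!
# Local symmetric algebras

`A` is a finite-dimensional `K`-algebra with a symmetrizing form `lam` and a homomorphism
`π : A → K` whose kernel `J` is nil.

* `exists_pow_eq_bot`: `J` is nilpotent;
* `perp_le_center`: `(J²)^⊥` is central;
* `finrank_center_ge`: if `J² ≠ 0` then `dim Z(A) ≥ 1 + dim A - dim J²`;
* `finrank_eq_two`: if `dim Z(A) = 2` then `dim A = 2`.
-/

set_option autoImplicit false

namespace Cfsg.Agent.H632.SymLocal

open Module

variable {K A : Type*} [Field K] [Ring A] [Algebra K A]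

/-- The kernel of the augmentation as a subspace. -/
def J (π : A →ₐ[K] K) : Submodule K A := LinearMap.ker π.toLinearMap

theorem mem_J {π : A →ₐ[K] K} {x : A} : x ∈ J π ↔ π x = 0 := Iff.rfl

theorem mul_mem_J_left {π : A →ₐ[K] K} (x : A) {y : A} (hy : y ∈ J π) : x * y ∈ J π := by
  rw [mem_J] at hy ⊢
  rw [map_mul, hy, mul_zero]

theorem mul_mem_J_right {π : A →ₐ[K] K} {x : A} (y : A) (hx : x ∈ J π) : x * y ∈ J π := by
  rw [mem_J] at hx ⊢
  rw [map_mul, hx, zero_mul]

theorem sub_mem_J {π : A →ₐ[K] K} (x : A) : x - algebraMap K A (π x) ∈ J π := by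
  rw [mem_J, map_sub, AlgHom.commutes, Algebra.algebraMap_self_apply, sub_self]

theorem pow_le_J {π : A →ₐ[K] K} (n : ℕ) : J π ^ (n + 1) ≤ J π := by
  rw [pow_succ, Submodule.mul_le]
  intro x _ y hy
  exact mul_mem_J_left x hy

theorem mul_mem_pow_left {π : A →ₐ[K] K} (n : ℕ) (x : A) {y : A} (hy : y ∈ J π ^ (n + 1)) :
    x * y ∈ J π ^ (n + 1) := by
  rw [pow_succ'] at hy ⊢
  induction hy using Submodule.mul_induction_on' with
  | mem_mul_mem a ha b hb =>
    rw [← mul_assoc]
    exact Submodule.mul_mem_mul (mul_mem_J_left x ha) hb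
  | add a _ b _ ha hb => rw [mul_add]; exact add_mem ha hb

theorem mul_mem_pow_right {π : A →ₐ[K] K} (n : ℕ) {x : A} (y : A) (hx : x ∈ J π ^ (n + 1)) :
    x * y ∈ J π ^ (n + 1) := by
  rw [pow_succ] at hx ⊢
  induction hx using Submodule.mul_induction_on' with
  | mem_mul_mem a ha b hb =>
    rw [mul_assoc]
    exact Submodule.mul_mem_mul ha (mul_mem_J_right y hb)
  | add a _ b _ ha hb => rw [add_mul]; exact add_mem ha hb

theorem exists_pow_eq_bot [FiniteDimensional K A] {π : A →ₐ[K] K}
    (hπ : ∀ a, π a = 0 → IsNilpotent a) : ∃ N, J π ^ N = ⊥ := by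
  have : IsArtinianRing A := IsArtinianRing.of_finite K A
  obtain ⟨N, hN⟩ : IsNilpotent (Ring.jacobson A) := IsSemiprimaryRing.isNilpotent
  have h1 : ∀ x ∈ J π, x ∈ Ring.jacobson A := by
    intro x hx
    rw [← Ideal.jacobson_bot, Ideal.mem_jacobson_iff]
    intro y
    have h2 : IsNilpotent (y * x) := hπ _ (mul_mem_J_left y hx)
    obtain ⟨u, hu⟩ := h2.isUnit_one_add
    refine ⟨((u⁻¹ : Aˣ) : A), ?_⟩
    rw [Ideal.mem_bot, sub_eq_zero, mul_assoc]
    calc ((u⁻¹ : Aˣ) : A) * (y * x) + ((u⁻¹ : Aˣ) : A)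
        = ((u⁻¹ : Aˣ) : A) * (1 + y * x) := by rw [mul_add, mul_one, add_comm]
      _ = 1 := by rw [← hu, Units.inv_mul]
  have h2 : ∀ n : ℕ, ∀ x ∈ J π ^ (n + 1), x ∈ (Ring.jacobson A) ^ (n + 1) := by
    intro n
    induction n with
    | zero =>
      intro x hx
      rw [zero_add, pow_one] at hx
      rw [zero_add, Submodule.pow_one]
      exact h1 x hx
    | succ n ih =>
      intro x hx
      rw [pow_succ] at hx
      rw [Submodule.pow_succ]
      induction hx using Submodule.mul_induction_on' with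
      | mem_mul_mem a ha b hb => exact Submodule.mul_mem_mul (ih a ha) (h1 b hb)
      | add a _ b _ ha hb => exact add_mem ha hb
  refine ⟨N + 1, ?_⟩
  rw [eq_bot_iff]
  intro x hx
  have h3 := h2 N x hx
  rw [Submodule.pow_succ, hN, zero_mul] at h3
  exact h3

theorem eq_bot_of_mul_self [FiniteDimensional K A] {π : A →ₐ[K] K}
    (hπ : ∀ a, π a = 0 → IsNilpotent a) (h : J π ≤ J π ^ 2) : J π = ⊥ := by
  obtain ⟨N, hN⟩ := exists_pow_eq_bot hπ
  have h1 : ∀ n : ℕ, J π ≤ J π ^ (n + 1) := by
    intro n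
    induction n with
    | zero => rw [zero_add, pow_one]
    | succ n ih =>
      refine h.trans ?_
      rw [pow_two, pow_succ _ (n + 1)]
      exact mul_le_mul' ih le_rfl
  rw [eq_bot_iff]
  refine (h1 N).trans ?_
  rw [pow_succ, hN, Submodule.bot_mul]

section form

variable (lam : A →ₗ[K] K)

/-- The bilinear form of a linear form. -/
noncomputable def bil : LinearMap.BilinForm K A := (LinearMap.mul K A).compr₂ lam

theorem bil_apply (a b : A) : bil lam a b = lam (a * b) := rfl

variable {lam}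

theorem bil_nondeg (hs : ∀ a b, lam (a * b) = lam (b * a))
    (hn : ∀ a, (∀ b, lam (a * b) = 0) → a = 0) : (bil lam).Nondegenerate := by
  refine ⟨?_, ?_⟩
  · intro a ha
    exact hn a ha
  · intro a ha
    refine hn a fun b => ?_
    rw [hs]
    exact ha b

theorem bil_isRefl (hs : ∀ a b, lam (a * b) = lam (b * a)) : (bil lam).IsRefl := by
  intro a b h
  rw [bil_apply] at h ⊢
  rw [hs, h]

/-- The orthogonal of a subspace. -/
noncomputable def perp (lam : A →ₗ[K] K) (W : Submodule K A) : Submodule K A where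
  carrier := {a | ∀ b ∈ W, lam (a * b) = 0}
  add_mem' := by
    intro a a' ha ha' b hb
    rw [add_mul, map_add, ha b hb, ha' b hb, add_zero]
  zero_mem' := by
    intro b _
    rw [zero_mul, map_zero]
  smul_mem' := by
    intro c a ha b hb
    rw [smul_mul_assoc, map_smul, ha b hb, smul_zero]

theorem mem_perp {W : Submodule K A} {a : A} : a ∈ perp lam W ↔ ∀ b ∈ W, lam (a * b) = 0 :=
  Iff.rfl

theorem finrank_perp [FiniteDimensional K A] (hs : ∀ a b, lam (a * b) = lam (b * a))
    (hn : ∀ a, (∀ b, lam (a * b) = 0) → a = 0) (W : Submodule K A) :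
    finrank K (perp lam W) + finrank K W = finrank K A := by
  have h1 := LinearMap.BilinForm.finrank_orthogonal (bil_nondeg hs hn) W
  have h2 : (bil lam).orthogonal W = perp lam W := by
    ext a
    rw [LinearMap.BilinForm.mem_orthogonal_iff, mem_perp]
    refine forall₂_congr fun b _ => ?_
    show lam (b * a) = 0 ↔ _
    rw [hs]
  rw [h2] at h1
  have h3 := Submodule.finrank_le W
  omega

/-- `(J²)^⊥` is central. -/
theorem perp_le_center {π : A →ₐ[K] K} (hs : ∀ a b, lam (a * b) = lam (b * a))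
    (hn : ∀ a, (∀ b, lam (a * b) = 0) → a = 0) {a : A} (ha : a ∈ perp lam (J π ^ 2)) :
    a ∈ Subalgebra.center K A := by
  rw [Subalgebra.mem_center_iff]
  intro x
  rw [← sub_eq_zero]
  refine hn _ fun y => ?_
  have h1 : lam ((x * a - a * x) * y) = lam (a * (y * x - x * y)) := by
    rw [sub_mul, mul_sub, map_sub, map_sub, ← mul_assoc, ← mul_assoc, mul_assoc x a y, hs x (a * y)]
  rw [h1]
  apply ha
  have h2 : y * x - x * y = (y - algebraMap K A (π y)) * (x - algebraMap K A (π x)) -
      (x - algebraMap K A (π x)) * (y - algebraMap K A (π y)) := by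
    have e1 := Algebra.commutes (π x) y
    have e2 := Algebra.commutes (π y) x
    have e3 := Algebra.commutes (π y) (algebraMap K A (π x))
    rw [sub_mul, mul_sub, mul_sub, sub_mul, mul_sub, mul_sub, e1, e2, e3]
    abel
  rw [h2, pow_two]
  exact sub_mem (Submodule.mul_mem_mul (sub_mem_J y) (sub_mem_J x))
    (Submodule.mul_mem_mul (sub_mem_J x) (sub_mem_J y))

theorem one_notMem_perp {π : A →ₐ[K] K} (hn : ∀ a, (∀ b, lam (a * b) = 0) → a = 0) {n : ℕ}
    (h : J π ^ (n + 1) ≠ ⊥) : (1 : A) ∉ perp lam (J π ^ (n + 1)) := by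
  intro h1
  apply h
  rw [eq_bot_iff]
  intro b hb
  refine hn b fun c => ?_
  have := h1 _ (mul_mem_pow_right n c hb)
  rwa [one_mul] at this

theorem finrank_center_ge [FiniteDimensional K A] {π : A →ₐ[K] K}
    (hs : ∀ a b, lam (a * b) = lam (b * a))
    (hn : ∀ a, (∀ b, lam (a * b) = 0) → a = 0) (h : J π ^ 2 ≠ ⊥) :
    1 + finrank K A ≤ finrank K (Subalgebra.center K A) + finrank K (J π ^ 2 : Submodule K A) := by
  have h1 : finrank K (perp lam (J π ^ 2)) <
      finrank K (Subalgebra.toSubmodule (Subalgebra.center K A)) := by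
    apply Submodule.finrank_lt_finrank_of_lt
    rw [SetLike.lt_iff_le_and_exists]
    exact ⟨fun a ha => perp_le_center hs hn ha, 1, one_mem (Subalgebra.center K A),
      one_notMem_perp hn h⟩
  have h2 := finrank_perp hs hn (J π ^ 2)
  have h3 : finrank K (Subalgebra.toSubmodule (Subalgebra.center K A)) =
    finrank K (Subalgebra.center K A) := rfl
  omega

theorem finrank_J [FiniteDimensional K A] (π : A →ₐ[K] K) :
    finrank K (J π) + 1 = finrank K A := by
  have h1 := LinearMap.finrank_range_add_finrank_ker π.toLinearMap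
  have h2 : LinearMap.range π.toLinearMap = ⊤ := by
    rw [LinearMap.range_eq_top]
    intro c
    exact ⟨algebraMap K A c, by
      rw [AlgHom.toLinearMap_apply, AlgHom.commutes, Algebra.algebraMap_self_apply]⟩
  rw [h2, finrank_top, finrank_self] at h1
  have h3 : finrank K (J π) = finrank K (LinearMap.ker π.toLinearMap) := rfl
  omega

/-- If `J² = 0` then the algebra is commutative. -/
theorem finrank_center_eq_of_sq [FiniteDimensional K A] {π : A →ₐ[K] K}
    (hs : ∀ a b, lam (a * b) = lam (b * a))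
    (hn : ∀ a, (∀ b, lam (a * b) = 0) → a = 0) (h : J π ^ 2 = ⊥) :
    finrank K (Subalgebra.center K A) = finrank K A := by
  have h1 : Subalgebra.toSubmodule (Subalgebra.center K A) = ⊤ := by
    rw [eq_top_iff]
    intro a _
    apply perp_le_center (π := π) hs hn
    rw [h]
    intro b hb
    rw [(Submodule.mem_bot K).1 hb, mul_zero, map_zero]
  have h3 : finrank K (Subalgebra.toSubmodule (Subalgebra.center K A)) =
    finrank K (Subalgebra.center K A) := rfl
  rw [← h3, h1, finrank_top]

/-- A local symmetric algebra with two-dimensional centre is two-dimensional. -/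
theorem finrank_eq_two [FiniteDimensional K A] {π : A →ₐ[K] K}
    (hπ : ∀ a, π a = 0 → IsNilpotent a) (hs : ∀ a b, lam (a * b) = lam (b * a))
    (hn : ∀ a, (∀ b, lam (a * b) = 0) → a = 0)
    (h : finrank K (Subalgebra.center K A) = 2) : finrank K A = 2 := by
  by_cases h2 : J π ^ 2 = ⊥
  · rw [← h, finrank_center_eq_of_sq hs hn h2]
  · exfalso
    have h3 := finrank_center_ge hs hn h2
    have h4 := finrank_J π
    have h5 : J π ^ 2 = J π := by
      apply Submodule.eq_of_le_of_finrank_le
      · exact pow_le_J 1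
      · omega
    apply h2
    rw [h5, eq_bot_of_mul_self hπ h5.ge]

end form

end Cfsg.Agent.H632.SymLocal
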