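import Mathlib

/-!
# Bilinear maps all of whose left multiplications are singular

* `rank_one`: a bilinear map `μ : V × V → W` all of whose left multiplications have rank at most one
  has a common kernel vector, or its values are multiples of one vector;
* `net`: `V`, `W` three-dimensional, the values of `μ` span `W`, no common kernel vector, all left
  multiplications singular: then either `μ(V, V₁)` is one-dimensional for some two-dimensional
  `V₁`, or `μ(x, N x) = 0` for a surjective linear `N`.
-/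

set_option autoImplicit false

namespace Cfsg.Agent.H632.Net

open Module

variable {K V W : Type*} [Field K] [AddCommGroup V] [Module K V] [AddCommGroup W] [Module K W]

theorem rank_one [FiniteDimensional K V] (h2 : 2 ≤ finrank K V) (μ : V →ₗ[K] V →ₗ[K] W)
    (hr : ∀ x v w, μ x v ≠ 0 → ∃ c : K, μ x w = c • μ x v) :
    (∃ v : V, v ≠ 0 ∧ ∀ x, μ x v = 0) ∨ ∃ g : W, ∀ x v, ∃ c : K, μ x v = c • g := by
  by_cases h0 : ∀ x v, μ x v = 0
  · right
    exact ⟨0, fun x v => ⟨0, by rw [h0, smul_zero]⟩⟩
  push Not at h0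
  obtain ⟨x, v₀, hxv⟩ := h0
  set g := μ x v₀ with hg
  -- the values on the kernel of `μ x`
  have hker : ∀ v, μ x v = 0 → ∀ y, ∃ c : K, μ y v = c • g := by
    intro v hv y
    by_cases hyv : μ y v = 0
    · exact ⟨0, by rw [hyv, zero_smul]⟩
    · obtain ⟨a, ha⟩ := hr y v v₀ hyv
      obtain ⟨b, hb⟩ := hr (x + y) v v₀ (by rw [map_add, LinearMap.add_apply, hv, zero_add]; exact hyv)
      rw [map_add, LinearMap.add_apply, LinearMap.add_apply, hv, zero_add, ha, ← hg] at hb
      have h1 : g = (b - a) • μ y v := by rw [sub_smul, ← hb, add_sub_cancel_right]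
      have hba : b - a ≠ 0 := by
        intro h
        rw [h, zero_smul] at h1
        exact hxv h1
      exact ⟨(b - a)⁻¹, by rw [h1, smul_smul, inv_mul_cancel₀ hba, one_smul]⟩
  by_cases hall : ∀ v, μ x v = 0 → ∀ y, μ y v = 0
  · left
    -- a nonzero kernel vector of `μ x`
    obtain ⟨v, hv0, hv⟩ : ∃ v : V, v ≠ 0 ∧ μ x v = 0 := by
      by_contra hcon
      push Not at hcon
      -- then `μ x` is injective with one-dimensional range
      have h1 : ∀ v : V, ∃ c : K, v = c • v₀ := by
        intro v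
        obtain ⟨c, hc⟩ := hr x v₀ v hxv
        refine ⟨c, ?_⟩
        by_contra hne
        apply hcon (v - c • v₀) (sub_ne_zero.2 hne)
        rw [map_sub, map_smul, hc, sub_self]
      have h5 : (⊤ : Submodule K V) ≤ Submodule.span K {v₀} := by
        intro u _
        rw [Submodule.mem_span_singleton]
        obtain ⟨c, hc⟩ := h1 u
        exact ⟨c, hc.symm⟩
      have h6 := Submodule.finrank_mono h5
      have h7 : finrank K (Submodule.span K {v₀}) ≤ 1 := by
        have := finrank_span_le_card (R := K) ({v₀} : Set V)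
        simpa using this
      rw [finrank_top] at h6
      omega
    exact ⟨v, hv0, fun y => hall v hv y⟩
  · right
    push Not at hall
    obtain ⟨h₁, hh₁, y₁, hy₁⟩ := hall
    have hbig : ∀ y, μ y h₁ ≠ 0 → ∀ v, ∃ c : K, μ y v = c • g := by
      intro y hy v
      obtain ⟨c, hc⟩ := hr y h₁ v hy
      obtain ⟨d, hd⟩ := hker h₁ hh₁ y
      exact ⟨c * d, by rw [hc, hd, smul_smul]⟩
    refine ⟨g, fun y v => ?_⟩
    by_cases hy : μ y h₁ = 0
    · obtain ⟨c, hc⟩ := hbig (y + y₁) (by rw [map_add, LinearMap.add_apply, hy, zero_add]; exact hy₁) v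
      obtain ⟨d, hd⟩ := hbig y₁ hy₁ v
      refine ⟨c - d, ?_⟩
      rw [sub_smul, ← hc, ← hd, map_add, LinearMap.add_apply, add_sub_cancel_right]
    · exact hbig y hy v

theorem poly_three [Infinite K] {a b c : K} (h : ∀ t : K, a * t + b * t ^ 2 + c * t ^ 3 = 0) :
    a = 0 ∧ b = 0 ∧ c = 0 := by
  have h1 : (Polynomial.C a * Polynomial.X + Polynomial.C b * Polynomial.X ^ 2 +
      Polynomial.C c * Polynomial.X ^ 3 : Polynomial K) = 0 := by
    apply Polynomial.funext
    intro t
    simp only [Polynomial.eval_add, Polynomial.eval_mul, Polynomial.eval_C, Polynomial.eval_X,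
      Polynomial.eval_pow, Polynomial.eval_zero]
    exact h t
  refine ⟨?_, ?_, ?_⟩
  · have := congrArg (fun f => Polynomial.coeff f 1) h1
    simpa [Polynomial.coeff_X, Polynomial.coeff_X_pow] using this
  · have := congrArg (fun f => Polynomial.coeff f 2) h1
    simpa [Polynomial.coeff_X, Polynomial.coeff_X_pow] using this
  · have := congrArg (fun f => Polynomial.coeff f 3) h1
    simpa [Polynomial.coeff_X, Polynomial.coeff_X_pow] using this

/-- A product of linear forms vanishing identically has a zero factor. -/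
theorem forms_two {f g : V →ₗ[K] K} (h : ∀ y, f y * g y = 0) : f = 0 ∨ g = 0 := by
  by_contra hcon
  push Not at hcon
  obtain ⟨hf, hg⟩ := hcon
  obtain ⟨y, hy⟩ : ∃ y, f y ≠ 0 := by
    by_contra hc
    push Not at hc
    exact hf (LinearMap.ext hc)
  obtain ⟨z, hz⟩ : ∃ z, g z ≠ 0 := by
    by_contra hc
    push Not at hc
    exact hg (LinearMap.ext hc)
  have h1 : g y = 0 := (mul_eq_zero.1 (h y)).resolve_left hy
  have h2 : f z = 0 := (mul_eq_zero.1 (h z)).resolve_right hz
  have h3 := h (y + z)
  rw [map_add, map_add, h1, h2, add_zero, zero_add] at h3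
  exact mul_ne_zero hy hz h3

theorem forms_three [Infinite K] {f g k : V →ₗ[K] K} (h : ∀ y, f y * g y * k y = 0) :
    f = 0 ∨ g = 0 ∨ k = 0 := by
  by_contra hcon
  push Not at hcon
  obtain ⟨hf, hg, hk⟩ := hcon
  obtain ⟨z, hz⟩ : ∃ z, k z ≠ 0 := by
    by_contra hc
    push Not at hc
    exact hk (LinearMap.ext hc)
  obtain ⟨y, hy⟩ : ∃ y, f y * g y ≠ 0 := by
    by_contra hc
    push Not at hc
    rcases forms_two hc with h1 | h1
    · exact hf h1
    · exact hg h1
  have hky : k y = 0 := (mul_eq_zero.1 (h y)).resolve_left hy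
  have h1 : ∀ t : K, (f y * g y * k z) * t + ((f y * g z + f z * g y) * k z) * t ^ 2 +
      (f z * g z * k z) * t ^ 3 = 0 := by
    intro t
    have h2 := h (y + t • z)
    simp only [map_add, map_smul, smul_eq_mul, hky, zero_add] at h2
    linear_combination h2
  exact mul_ne_zero hy hz (poly_three h1).1

section net

variable [Infinite K] (μ : V →ₗ[K] V →ₗ[K] W) (bV : Basis (Fin 3) K V) (bW : Basis (Fin 3) K W)

/-- The matrix of left multiplication by `y`. -/
noncomputable def mat (y : V) : Matrix (Fin 3) (Fin 3) K := LinearMap.toMatrix bV bW (μ y)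

omit [Infinite K] in
theorem mat_apply (y : V) (i j : Fin 3) : mat μ bV bW y i j = bW.repr (μ y (bV j)) i := by
  rw [mat, LinearMap.toMatrix_apply]

omit [Infinite K] in
theorem mat_add_smul (x y : V) (t : K) (i j : Fin 3) :
    mat μ bV bW (x + t • y) i j = mat μ bV bW x i j + t * mat μ bV bW y i j := by
  simp only [mat_apply, map_add, map_smul, LinearMap.add_apply, LinearMap.smul_apply,
    Finsupp.add_apply, Finsupp.smul_apply, smul_eq_mul]

omit [Infinite K] in
theorem det_mat (hs : ∀ x, ∃ v : V, v ≠ 0 ∧ μ x v = 0) (y : V) : (mat μ bV bW y).det = 0 := by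
  rw [← Matrix.exists_mulVec_eq_zero_iff]
  obtain ⟨v, hv, hyv⟩ := hs y
  refine ⟨bV.repr v, ?_, ?_⟩
  · intro h
    apply hv
    apply bV.repr.injective
    rw [map_zero]
    exact DFunLike.coe_injective h
  · rw [mat, LinearMap.toMatrix_mulVec_repr, hyv, map_zero]
    rfl

/-- The conditions from the determinant at a point of rank two. -/
theorem conds (hs : ∀ x, ∃ v : V, v ≠ 0 ∧ μ x v = 0) {x : V}
    (h1 : μ x (bV 0) = bW 0) (h2 : μ x (bV 1) = bW 1) (h3 : μ x (bV 2) = 0) (y : V) :
    mat μ bV bW y 2 2 = 0 ∧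
      mat μ bV bW y 2 0 * mat μ bV bW y 0 2 + mat μ bV bW y 2 1 * mat μ bV bW y 1 2 = 0 := by
  have hx : ∀ i j, mat μ bV bW x i j = if (i = j ∧ i ≠ 2) then 1 else 0 := by
    intro i j
    rw [mat_apply]
    fin_cases j <;> simp only [Fin.mk_one, Fin.zero_eta, Fin.reduceFinMk, h1, h2, h3, map_zero,
      Basis.repr_self] <;> fin_cases i <;> simp
  have h4 : ∀ t : K, (mat μ bV bW y 2 2) * t +
      (mat μ bV bW y 0 0 * mat μ bV bW y 2 2 + mat μ bV bW y 1 1 * mat μ bV bW y 2 2 -
        (mat μ bV bW y 2 0 * mat μ bV bW y 0 2 + mat μ bV bW y 2 1 * mat μ bV bW y 1 2)) * t ^ 2 +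
      (mat μ bV bW y).det * t ^ 3 = 0 := by
    intro t
    have h5 := det_mat μ bV bW hs (x + t • y)
    rw [Matrix.det_fin_three] at h5 ⊢
    simp only [mat_add_smul, hx] at h5
    simp only [Fin.isValue, ne_eq, Fin.reduceEq, not_false_eq_true, and_self, ↓reduceIte,
      not_true_eq_false, and_false, zero_ne_one, one_ne_zero, and_true, zero_add] at h5
    linear_combination h5
  obtain ⟨e1, e2, -⟩ := poly_three h4
  refine ⟨e1, ?_⟩
  rw [e1, mul_zero, mul_zero, zero_add, zero_sub, neg_eq_zero] at e2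
  exact e2

omit [Infinite K] in
theorem eq_sum_mat (y : V) (j : Fin 3) : μ y (bV j) = mat μ bV bW y 0 j • bW 0 +
    mat μ bV bW y 1 j • bW 1 + mat μ bV bW y 2 j • bW 2 := by
  rw [mat_apply, mat_apply, mat_apply, ← Fin.sum_univ_three
    (f := fun i => (bW.repr (μ y (bV j))) i • bW i), bW.sum_repr]

/-- The linear form of an entry. -/
noncomputable def ent (i j : Fin 3) : V →ₗ[K] K := (bW.coord i) ∘ₗ (μ.flip (bV j))

omit [Infinite K] in
theorem ent_apply (i j : Fin 3) (y : V) : ent μ bV bW i j y = mat μ bV bW y i j := by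
  rw [mat_apply]
  rfl

end net

theorem exists_basis_of_indep {x₁ x₂ x₃ : V} (h3 : finrank K V = 3)
    (h : LinearIndependent K ![x₁, x₂, x₃]) :
    ∃ b : Basis (Fin 3) K V, b 0 = x₁ ∧ b 1 = x₂ ∧ b 2 = x₃ := by
  refine ⟨basisOfLinearIndependentOfCardEqFinrank h (by rw [Fintype.card_fin, h3]), ?_, ?_, ?_⟩ <;>
    rw [coe_basisOfLinearIndependentOfCardEqFinrank] <;> rfl

theorem net [Infinite K] (h3 : finrank K V = 3) (h3' : finrank K W = 3)
    (μ : V →ₗ[K] V →ₗ[K] W) (h0 : ∀ v, (∀ x, μ x v = 0) → v = 0)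
    (hW : ∀ f : W →ₗ[K] K, (∀ x v, f (μ x v) = 0) → f = 0)
    (hs : ∀ x, ∃ v : V, v ≠ 0 ∧ μ x v = 0) :
    (∃ v₁ v₂ : V, LinearIndependent K ![v₁, v₂] ∧
      ∃ g : W, ∀ x, (∃ c : K, μ x v₁ = c • g) ∧ ∃ c : K, μ x v₂ = c • g) ∨
    ∃ N : V →ₗ[K] V, Function.Surjective N ∧ ∀ x, μ x (N x) = 0 := by
  have hfV : FiniteDimensional K V := FiniteDimensional.of_finrank_pos (by omega)
  have hfW : FiniteDimensional K W := FiniteDimensional.of_finrank_pos (by omega)
  -- an element of rank two
  obtain ⟨x, s₁, s₂, hx⟩ : ∃ x s₁ s₂ : V, LinearIndependent K ![μ x s₁, μ x s₂] := by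
    by_contra hcon
    push Not at hcon
    have hr : ∀ x v w, μ x v ≠ 0 → ∃ c : K, μ x w = c • μ x v := by
      intro x v w hne
      have h1 := hcon x v w
      rw [LinearIndependent.pair_iff' hne] at h1
      push Not at h1
      obtain ⟨c, hc⟩ := h1
      exact ⟨c, hc.symm⟩
    rcases rank_one (by omega) μ hr with ⟨v, hv0, hv⟩ | ⟨g, hg⟩
    · exact hv0 (h0 v hv)
    · obtain ⟨f, hf0, hf⟩ := Submodule.exists_le_ker_of_lt_top (Submodule.span K {g}) (by
        rw [lt_top_iff_ne_top]
        intro h
        have h7 : finrank K (Submodule.span K {g}) ≤ 1 := by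
          have := finrank_span_le_card (R := K) ({g} : Set W)
          simpa using this
        rw [h, finrank_top] at h7
        omega)
      apply hf0
      apply hW
      intro x v
      obtain ⟨c, hc⟩ := hg x v
      rw [hc, map_smul]
      have : f g = 0 := hf (Submodule.mem_span_singleton_self g)
      rw [this, smul_zero]
  obtain ⟨v₀, hv₀, hxv₀⟩ := hs x
  have hx' : ∀ a b : K, a • μ x s₁ + b • μ x s₂ = 0 → a = 0 ∧ b = 0 :=
    LinearIndependent.pair_iff.1 hx
  -- bases
  have key : ∀ u₁ u₂ : V, LinearIndependent K ![μ x u₁, μ x u₂] →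
      ∃ (bV : Basis (Fin 3) K V) (bW : Basis (Fin 3) K W), bV 0 = u₁ ∧ bV 1 = u₂ ∧ bV 2 = v₀ ∧
        μ x (bV 0) = bW 0 ∧ μ x (bV 1) = bW 1 ∧ μ x (bV 2) = 0 := by
    intro u₁ u₂ hu
    have hu' := LinearIndependent.pair_iff.1 hu
    have hi : LinearIndependent K ![u₁, u₂, v₀] := by
      rw [Fintype.linearIndependent_iff]
      intro g hg
      rw [Fin.sum_univ_three] at hg
      simp only [Matrix.cons_val_zero, Matrix.cons_val_one, Matrix.cons_val] at hg
      have h1 := congrArg (μ x) hg
      rw [map_add, map_add, map_smul, map_smul, map_smul, hxv₀, smul_zero, add_zero,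
        map_zero] at h1
      obtain ⟨e1, e2⟩ := hu' _ _ h1
      rw [e1, e2, zero_smul, zero_smul, zero_add, zero_add] at hg
      have e3 := (smul_eq_zero.1 hg).resolve_right hv₀
      intro i
      fin_cases i
      · exact e1
      · exact e2
      · exact e3
    obtain ⟨bV, b0, b1, b2⟩ := exists_basis_of_indep h3 hi
    -- complete the basis of `W`
    obtain ⟨t₃, ht₃⟩ : ∃ t₃ : W, t₃ ∉ Submodule.span K {μ x u₁, μ x u₂} := by
      by_contra hcon
      push Not at hcon
      have h5 : (⊤ : Submodule K W) ≤ Submodule.span K {μ x u₁, μ x u₂} := fun u _ => hcon u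
      have h6 := Submodule.finrank_mono h5
      have h7 : finrank K (Submodule.span K {μ x u₁, μ x u₂}) ≤ 2 := by
        classical
        have h8 := finrank_span_finset_le_card (R := K) ({μ x u₁, μ x u₂} : Finset W)
        have h9 : ({μ x u₁, μ x u₂} : Finset W).card ≤ 2 := Finset.card_le_two
        have h10 : (Submodule.span K (({μ x u₁, μ x u₂} : Finset W) : Set W)) =
            Submodule.span K {μ x u₁, μ x u₂} := by
          congr 1
          simp
        have h11 : finrank K (Submodule.span K {μ x u₁, μ x u₂}) ≤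
            ({μ x u₁, μ x u₂} : Finset W).card := by
          rw [← h10]
          exact h8
        omega
      rw [finrank_top] at h6
      omega
    have hi' : LinearIndependent K ![μ x u₁, μ x u₂, t₃] := by
      rw [Fintype.linearIndependent_iff]
      intro g hg
      rw [Fin.sum_univ_three] at hg
      simp only [Matrix.cons_val_zero, Matrix.cons_val_one, Matrix.cons_val] at hg
      have e3 : g 2 = 0 := by
        by_contra hne
        apply ht₃
        rw [Submodule.mem_span_pair]
        refine ⟨-(g 2)⁻¹ * g 0, -(g 2)⁻¹ * g 1, ?_⟩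
        have h1 : g 2 • t₃ = -(g 0 • μ x u₁ + g 1 • μ x u₂) := by
          rw [eq_neg_iff_add_eq_zero, ← hg]
          abel
        calc (-(g 2)⁻¹ * g 0) • μ x u₁ + (-(g 2)⁻¹ * g 1) • μ x u₂
            = (g 2)⁻¹ • -(g 0 • μ x u₁ + g 1 • μ x u₂) := by module
          _ = t₃ := by rw [← h1, smul_smul, inv_mul_cancel₀ hne, one_smul]
      rw [e3, zero_smul, add_zero] at hg
      obtain ⟨e1, e2⟩ := hu' _ _ hg
      intro i
      fin_cases i
      · exact e1
      · exact e2
      · exact e3
    obtain ⟨bW, c0, c1, -⟩ := exists_basis_of_indep h3' hi'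
    exact ⟨bV, bW, b0, b1, b2, by rw [b0, c0], by rw [b1, c1], by rw [b2, hxv₀]⟩
  by_cases hII : ∃ s, (∀ c : K, s ≠ c • v₀) ∧ ∀ y, ∃ u, μ y s = μ x u
  · -- Case II
    left
    obtain ⟨s, hsv, hsy⟩ := hII
    have hxs : μ x s ≠ 0 := by
      intro h
      -- the kernel of `μ x` is one-dimensional
      have h1 : LinearMap.ker (μ x) ≤ Submodule.span K {v₀} := by
        have hrn := LinearMap.finrank_range_add_finrank_ker (μ x)
        have h2 : 2 ≤ finrank K (LinearMap.range (μ x)) := by
          let w : Fin 2 → LinearMap.range (μ x) := ![⟨μ x s₁, s₁, rfl⟩, ⟨μ x s₂, s₂, rfl⟩]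
          have hw : LinearIndependent K w := by
            apply LinearIndependent.of_comp (LinearMap.range (μ x)).subtype
            convert hx using 1
            funext i
            fin_cases i <;> rfl
          have := hw.fintype_card_le_finrank
          simpa using this
        have h4 : Submodule.span K {v₀} ≤ LinearMap.ker (μ x) := by
          rw [Submodule.span_singleton_le_iff_mem]
          exact hxv₀
        have h5 : finrank K (Submodule.span K {v₀}) = 1 := finrank_span_singleton hv₀
        have h6 := Submodule.eq_of_le_of_finrank_le h4 (by omega)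
        exact h6.ge
      obtain ⟨c, hc⟩ := Submodule.mem_span_singleton.1 (h1 (show μ x s = 0 from h))
      exact hsv c hc.symm
    -- complete `s`
    obtain ⟨s', hs'⟩ : ∃ s', LinearIndependent K ![μ x s', μ x s] := by
      by_contra hcon
      push Not at hcon
      have h1 : ∀ u, ∃ c : K, μ x u = c • μ x s := by
        intro u
        by_contra hc
        push Not at hc
        apply hcon u
        rw [LinearIndependent.pair_symm_iff, LinearIndependent.pair_iff' hxs]
        intro a ha
        exact hc a ha.symm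
      obtain ⟨a, ha⟩ := h1 s₁
      obtain ⟨b, hb⟩ := h1 s₂
      have h2 := hx' b (-a) (by rw [ha, hb]; module)
      have hb0 : b = 0 := h2.1
      have hs2 : μ x s₂ = 0 := by rw [hb, hb0, zero_smul]
      have h3 := hx' 0 1 (by rw [hs2]; simp)
      exact one_ne_zero h3.2
    obtain ⟨bV, bW, b0, b1, b2, c0, c1, c2⟩ := key s' s hs'
    have hc := conds μ bV bW hs c0 c1 c2
    have hp2 : ∀ y, mat μ bV bW y 2 1 = 0 := by
      intro y
      rw [mat_apply, b1]
      obtain ⟨u, hu⟩ := hsy y
      rw [hu]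
      -- `μ x u` is in the span of `bW 0, bW 1`
      have h4 : u = bV.repr u 0 • bV 0 + bV.repr u 1 • bV 1 + bV.repr u 2 • bV 2 := by
        rw [← Fin.sum_univ_three (f := fun i => (bV.repr u) i • bV i), bV.sum_repr]
      rw [h4]
      simp only [map_add, map_smul, c0, c1, c2, smul_zero, add_zero, Basis.repr_self]
      simp
    have hp1 : ent μ bV bW 2 0 ≠ 0 := by
      intro h
      have h1 : bW.coord 2 = 0 := by
        apply hW
        intro y v
        have h4 : v = bV.repr v 0 • bV 0 + bV.repr v 1 • bV 1 + bV.repr v 2 • bV 2 := by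
          rw [← Fin.sum_univ_three (f := fun i => (bV.repr v) i • bV i), bV.sum_repr]
        have e0 : bW.repr (μ y (bV 0)) 2 = 0 := by
          rw [← mat_apply, ← ent_apply, h, LinearMap.zero_apply]
        have e1 : bW.repr (μ y (bV 1)) 2 = 0 := by rw [← mat_apply, hp2]
        have e2 : bW.repr (μ y (bV 2)) 2 = 0 := by rw [← mat_apply, (hc y).1]
        rw [h4]
        simp only [map_add, map_smul, Basis.coord_apply, e0, e1, e2]
        simp
      have h2 := LinearMap.congr_fun h1 (bW 2)
      rw [Basis.coord_apply, Basis.repr_self, Finsupp.single_eq_same, LinearMap.zero_apply] at h2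
      exact one_ne_zero h2
    have hq1 : ent μ bV bW 0 2 = 0 := by
      rcases forms_two (f := ent μ bV bW 2 0) (g := ent μ bV bW 0 2) (fun y => by
        rw [ent_apply, ent_apply]
        have := (hc y).2
        rwa [hp2, zero_mul, add_zero] at this) with h | h
      · exact absurd h hp1
      · exact h
    have hq1' : ∀ y, mat μ bV bW y 0 2 = 0 := fun y => by
      rw [← ent_apply, hq1, LinearMap.zero_apply]
    have hq2 : ent μ bV bW 1 2 ≠ 0 := by
      intro h
      apply hv₀
      apply h0
      intro y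
      rw [← b2, eq_sum_mat μ bV bW, hq1', (hc y).1, ← ent_apply, h, LinearMap.zero_apply]
      simp
    have hY12 : ent μ bV bW 0 1 = 0 := by
      rcases forms_three (f := ent μ bV bW 2 0) (g := ent μ bV bW 0 1) (k := ent μ bV bW 1 2)
        (fun y => by
          rw [ent_apply, ent_apply, ent_apply]
          have h5 := det_mat μ bV bW hs y
          rw [Matrix.det_fin_three, hq1', (hc y).1, hp2] at h5
          linear_combination h5) with h | h | h
      · exact absurd h hp1
      · exact h
      · exact absurd h hq2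
    have hY12' : ∀ y, mat μ bV bW y 0 1 = 0 := fun y => by
      rw [← ent_apply, hY12, LinearMap.zero_apply]
    refine ⟨s, v₀, ?_, bW 1, fun y => ⟨⟨mat μ bV bW y 1 1, ?_⟩, ⟨mat μ bV bW y 1 2, ?_⟩⟩⟩
    · rw [LinearIndependent.pair_symm_iff, LinearIndependent.pair_iff' hv₀]
      intro a ha
      exact hsv a ha.symm
    · rw [← b1, eq_sum_mat μ bV bW, hY12', hp2, zero_smul, zero_smul, zero_add, add_zero]
    · rw [← b2, eq_sum_mat μ bV bW, hq1', (hc y).1, zero_smul, zero_smul, zero_add, add_zero]
  · -- Case I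
    right
    push Not at hII
    obtain ⟨bV, bW, b0, b1, b2, c0, c1, c2⟩ := key s₁ s₂ hx
    have hc := conds μ bV bW hs c0 c1 c2
    let P : V →ₗ[K] (K × K) := (ent μ bV bW 2 0).prod (ent μ bV bW 2 1)
    have hP : Function.Surjective P := by
      rw [← LinearMap.range_eq_top]
      by_contra hne
      obtain ⟨f, hf0, hf⟩ := Submodule.exists_le_ker_of_lt_top _ (lt_top_iff_ne_top.2 hne)
      set a₁ := f (1, 0) with ha₁
      set a₂ := f (0, 1) with ha₂
      have hfa : ∀ u v : K, f (u, v) = a₁ * u + a₂ * v := by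
        intro u v
        have : ((u, v) : K × K) = u • (1, 0) + v • (0, 1) := by simp
        rw [this, map_add, map_smul, map_smul, smul_eq_mul, smul_eq_mul, mul_comm u, mul_comm v]
      have hP0 : ∀ y, a₁ * mat μ bV bW y 2 0 + a₂ * mat μ bV bW y 2 1 = 0 := by
        intro y
        have h1 : f (P y) = 0 := hf ⟨y, rfl⟩
        rw [← hfa, ← h1]
        congr 1
        rw [← ent_apply, ← ent_apply]
        rfl
      have hne' : ∀ c : K, a₁ • bV 0 + a₂ • bV 1 ≠ c • v₀ := by
        intro c hcc
        rw [← b2] at hcc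
        have h2 : ∀ i, bV.repr (a₁ • bV 0 + a₂ • bV 1) i = bV.repr (c • bV 2) i := by
          intro i; rw [hcc]
        have h20 := h2 0
        have h21 := h2 1
        simp only [map_add, map_smul, Basis.repr_self, Finsupp.add_apply, Finsupp.smul_apply,
          Finsupp.single_apply, smul_eq_mul] at h20 h21
        simp only [Fin.isValue, ↓reduceIte, mul_one, one_ne_zero, mul_zero, add_zero,
          Fin.reduceEq] at h20
        simp only [Fin.isValue, zero_ne_one, ↓reduceIte, mul_zero, mul_one, zero_add,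
          Fin.reduceEq] at h21
        apply hf0
        refine LinearMap.ext fun z => ?_
        rw [← Prod.mk.eta (p := z), hfa, h20, h21, zero_mul, zero_mul, add_zero,
          LinearMap.zero_apply]
      obtain ⟨y, hy⟩ := hII _ hne'
      apply hy (mat μ bV bW y 0 0 • (a₁ • bV 0) + mat μ bV bW y 1 0 • (a₁ • bV 1) +
        (mat μ bV bW y 0 1 • (a₂ • bV 0) + mat μ bV bW y 1 1 • (a₂ • bV 1)))
      rw [map_add, map_smul, map_smul, eq_sum_mat μ bV bW y 0, eq_sum_mat μ bV bW y 1]
      simp only [map_add, map_smul, c0, c1]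
      have h3 : (a₁ * mat μ bV bW y 2 0 + a₂ * mat μ bV bW y 2 1) • bW 2 = 0 := by
        rw [hP0, zero_smul]
      rw [add_smul, mul_smul, mul_smul] at h3
      have h4 : a₁ • (mat μ bV bW y 0 0 • bW 0 + mat μ bV bW y 1 0 • bW 1 +
          mat μ bV bW y 2 0 • bW 2) + a₂ • (mat μ bV bW y 0 1 • bW 0 + mat μ bV bW y 1 1 • bW 1 +
          mat μ bV bW y 2 1 • bW 2) = (a₁ • mat μ bV bW y 2 0 • bW 2 +
          a₂ • mat μ bV bW y 2 1 • bW 2) + (a₁ • mat μ bV bW y 0 0 • bW 0 +
          a₁ • mat μ bV bW y 1 0 • bW 1 + (a₂ • mat μ bV bW y 0 1 • bW 0 +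
          a₂ • mat μ bV bW y 1 1 • bW 1)) := by module
      rw [h4, h3, zero_add]
      module
    obtain ⟨y, hy⟩ := hP (1, 0)
    obtain ⟨z, hz⟩ := hP (0, 1)
    have hy0 : mat μ bV bW y 2 0 = 1 := by
      rw [← ent_apply]; exact congrArg Prod.fst hy
    have hy1 : mat μ bV bW y 2 1 = 0 := by
      rw [← ent_apply]; exact congrArg Prod.snd hy
    have hz0 : mat μ bV bW z 2 0 = 0 := by
      rw [← ent_apply]; exact congrArg Prod.fst hz
    have hz1 : mat μ bV bW z 2 1 = 1 := by
      rw [← ent_apply]; exact congrArg Prod.snd hz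
    have hxe : ∀ i j, mat μ bV bW x i j = if (i = j ∧ i ≠ 2) then 1 else 0 := by
      intro i j
      rw [mat_apply]
      fin_cases j <;> simp only [Fin.mk_one, Fin.zero_eta, Fin.reduceFinMk, c0, c1, c2, map_zero,
        Basis.repr_self] <;> fin_cases i <;> simp
    -- the third column
    have hqy : mat μ bV bW y 0 2 = 0 := by
      have := (hc y).2
      rwa [hy0, hy1, one_mul, zero_mul, add_zero] at this
    have hqz : mat μ bV bW z 1 2 = 0 := by
      have := (hc z).2
      rwa [hz0, hz1, one_mul, zero_mul, zero_add] at this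
    have hadd : ∀ (u w : V) (i j : Fin 3), mat μ bV bW (u + w) i j =
        mat μ bV bW u i j + mat μ bV bW w i j := by
      intro u w i j
      have := mat_add_smul μ bV bW u w 1 i j
      rwa [one_smul, one_mul] at this
    have hqyz : mat μ bV bW z 0 2 = -mat μ bV bW y 1 2 := by
      have := (hc (y + z)).2
      rw [hadd, hadd, hadd, hadd, hy0, hz0, hy1, hz1, hqy, hqz] at this
      linear_combination this
    set γ := mat μ bV bW y 1 2 with hγ
    -- `x, y, z` is a basis
    have hxyz : LinearIndependent K ![x, y, z] := by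
      rw [Fintype.linearIndependent_iff]
      intro g hg
      rw [Fin.sum_univ_three] at hg
      simp only [Matrix.cons_val_zero, Matrix.cons_val_one, Matrix.cons_val] at hg
      have hlin : ∀ i j, g 0 * mat μ bV bW x i j + g 1 * mat μ bV bW y i j +
          g 2 * mat μ bV bW z i j = 0 := by
        intro i j
        have h1 := congrArg (ent μ bV bW i j) hg
        rw [map_add, map_add, map_smul, map_smul, map_smul, map_zero, ent_apply, ent_apply,
          ent_apply] at h1
        exact h1
      have e1 : g 1 = 0 := by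
        have := hlin 2 0
        rw [hxe, hy0, hz0] at this
        simpa using this
      have e2 : g 2 = 0 := by
        have := hlin 2 1
        rw [hxe, hy1, hz1] at this
        simpa using this
      have e0 : g 0 = 0 := by
        have := hlin 0 0
        rw [hxe, e1, e2] at this
        simpa using this
      intro i
      fin_cases i
      · exact e0
      · exact e1
      · exact e2
    obtain ⟨bX, x0, x1, x2⟩ := exists_basis_of_indep h3 hxyz
    have hγ0 : γ ≠ 0 := by
      intro h
      apply hv₀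
      apply h0
      intro w
      have h4 : w = bX.repr w 0 • x + bX.repr w 1 • y + bX.repr w 2 • z := by
        rw [← x0, ← x1, ← x2, ← Fin.sum_univ_three (f := fun i => (bX.repr w) i • bX i),
          bX.sum_repr]
      have ex : μ x v₀ = 0 := hxv₀
      have ey : μ y v₀ = 0 := by
        rw [← b2, eq_sum_mat μ bV bW, hqy, (hc y).1, ← hγ, h]
        simp
      have ez : μ z v₀ = 0 := by
        rw [← b2, eq_sum_mat μ bV bW, hqz, (hc z).1, hqyz, h]
        simp
      rw [h4, map_add, map_add, map_smul, map_smul, map_smul, LinearMap.add_apply,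
        LinearMap.add_apply, LinearMap.smul_apply, LinearMap.smul_apply, LinearMap.smul_apply,
        ex, ey, ez]
      simp
    -- determinants
    have hY01 : mat μ bV bW y 0 1 = 0 := by
      have h5 := det_mat μ bV bW hs y
      rw [Matrix.det_fin_three, hqy, (hc y).1, hy0, hy1, ← hγ] at h5
      have h6 : γ * mat μ bV bW y 0 1 = 0 := by linear_combination h5
      exact (mul_eq_zero.1 h6).resolve_left hγ0
    have hZ10 : mat μ bV bW z 1 0 = 0 := by
      have h5 := det_mat μ bV bW hs z
      rw [Matrix.det_fin_three, hqz, (hc z).1, hz0, hz1, hqyz] at h5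
      have h6 : γ * mat μ bV bW z 1 0 = 0 := by linear_combination -h5
      exact (mul_eq_zero.1 h6).resolve_left hγ0
    have hpoly : ∀ t : K, (γ * (mat μ bV bW z 0 1 + mat μ bV bW y 1 1 - mat μ bV bW y 0 0)) * t +
        (γ * (mat μ bV bW z 1 1 - mat μ bV bW z 0 0 - mat μ bV bW y 1 0)) * t ^ 2 + 0 * t ^ 3
        = 0 := by
      intro t
      have h5 := det_mat μ bV bW hs (y + t • z)
      rw [Matrix.det_fin_three] at h5
      simp only [mat_add_smul] at h5
      rw [(hc y).1, (hc z).1, hy0, hy1, hz0, hz1, hqy, hqz, hqyz, hY01, hZ10, ← hγ] at h5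
      linear_combination h5
    obtain ⟨r1, r2, -⟩ := poly_three hpoly
    have r1' := (mul_eq_zero.1 r1).resolve_left hγ0
    have r2' := (mul_eq_zero.1 r2).resolve_left hγ0
    -- the products
    have pxs1 : μ x (bV 0) = bW 0 := c0
    have pxs2 : μ x (bV 1) = bW 1 := c1
    have pxv : μ x (bV 2) = 0 := c2
    have pys1 : μ y (bV 0) = mat μ bV bW y 0 0 • bW 0 + mat μ bV bW y 1 0 • bW 1 + bW 2 := by
      rw [eq_sum_mat μ bV bW, hy0, one_smul]
    have pys2 : μ y (bV 1) = mat μ bV bW y 1 1 • bW 1 := by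
      rw [eq_sum_mat μ bV bW, hY01, hy1, zero_smul, zero_smul, zero_add, add_zero]
    have pyv : μ y (bV 2) = γ • bW 1 := by
      rw [eq_sum_mat μ bV bW, hqy, (hc y).1, ← hγ, zero_smul, zero_smul, zero_add, add_zero]
    have pzs1 : μ z (bV 0) = mat μ bV bW z 0 0 • bW 0 := by
      rw [eq_sum_mat μ bV bW, hZ10, hz0, zero_smul, zero_smul, add_zero, add_zero]
    have pzs2 : μ z (bV 1) = mat μ bV bW z 0 1 • bW 0 + mat μ bV bW z 1 1 • bW 1 + bW 2 := by
      rw [eq_sum_mat μ bV bW, hz1, one_smul]
    have pzv : μ z (bV 2) = (-γ) • bW 0 := by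
      rw [eq_sum_mat μ bV bW, hqz, (hc z).1, hqyz, zero_smul, zero_smul, add_zero, add_zero]
    set ρ := mat μ bV bW y 1 1 with hρ
    set ε := mat μ bV bW z 0 0 with hε
    set n₀ : V := γ⁻¹ • bV 2 with hn₀
    set n₁ : V := ρ • n₀ - bV 1 with hn₁
    set n₂ : V := bV 0 + ε • n₀ with hn₂
    let N : V →ₗ[K] V := bX.constr K ![n₀, n₁, n₂]
    have N0 : N x = n₀ := by rw [← x0, Basis.constr_basis]; rfl
    have N1 : N y = n₁ := by rw [← x1, Basis.constr_basis]; rfl
    have N2 : N z = n₂ := by rw [← x2, Basis.constr_basis]; rfl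
    have pxn : μ x n₀ = 0 := by rw [hn₀, map_smul, pxv, smul_zero]
    have pyn : μ y n₀ = bW 1 := by
      rw [hn₀, map_smul, pyv, smul_smul, inv_mul_cancel₀ hγ0, one_smul]
    have pzn : μ z n₀ = -bW 0 := by
      rw [hn₀, map_smul, pzv, smul_smul, mul_neg, inv_mul_cancel₀ hγ0, neg_smul, one_smul]
    refine ⟨N, ?_, ?_⟩
    · intro w
      have h4 : w = bV.repr w 0 • bV 0 + bV.repr w 1 • bV 1 + bV.repr w 2 • bV 2 := by
        rw [← Fin.sum_univ_three (f := fun i => (bV.repr w) i • bV i), bV.sum_repr]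
      have g2 : bV 2 = γ • n₀ := by rw [hn₀, smul_smul, mul_inv_cancel₀ hγ0, one_smul]
      have g1 : bV 1 = ρ • n₀ - n₁ := by rw [hn₁]; abel
      have g0 : bV 0 = n₂ - ε • n₀ := by rw [hn₂]; abel
      refine ⟨bV.repr w 0 • (z - ε • x) + bV.repr w 1 • (ρ • x - y) + bV.repr w 2 • (γ • x), ?_⟩
      simp only [map_add, map_sub, map_smul, N0, N1, N2]
      conv_rhs => rw [h4, g0, g1, g2]
    · intro w
      have h4 : w = bX.repr w 0 • x + bX.repr w 1 • y + bX.repr w 2 • z := by
        rw [← x0, ← x1, ← x2, ← Fin.sum_univ_three (f := fun i => (bX.repr w) i • bX i),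
          bX.sum_repr]
      generalize bX.repr w 0 = a at h4
      generalize bX.repr w 1 = b at h4
      generalize bX.repr w 2 = c at h4
      rw [h4]
      simp only [map_add, map_smul, N0, N1, N2, LinearMap.add_apply, LinearMap.smul_apply]
      have qx1 : μ x n₁ = -bW 1 := by rw [hn₁, map_sub, map_smul, pxn, pxs2, smul_zero, zero_sub]
      have qx2 : μ x n₂ = bW 0 := by rw [hn₂, map_add, map_smul, pxn, pxs1, smul_zero, add_zero]
      have qy1 : μ y n₁ = 0 := by rw [hn₁, map_sub, map_smul, pyn, pys2, sub_self]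
      have qy2 : μ y n₂ = mat μ bV bW y 0 0 • bW 0 + mat μ bV bW y 1 0 • bW 1 + bW 2 +
          ε • bW 1 := by rw [hn₂, map_add, map_smul, pyn, pys1]
      have qz1 : μ z n₁ = ρ • (-bW 0) - (mat μ bV bW z 0 1 • bW 0 + mat μ bV bW z 1 1 • bW 1 +
          bW 2) := by rw [hn₁, map_sub, map_smul, pzn, pzs2]
      have qz2 : μ z n₂ = 0 := by
        rw [hn₂, map_add, map_smul, pzn, pzs1, smul_neg, add_neg_cancel]
      rw [pxn, pyn, pzn, qx1, qx2, qy1, qy2, qz1, qz2]
      have r1'' : mat μ bV bW y 0 0 = mat μ bV bW z 0 1 + ρ := by linear_combination -r1'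
      have r2'' : mat μ bV bW z 1 1 = ε + mat μ bV bW y 1 0 := by linear_combination r2'
      rw [r1'', r2'']
      module

end Cfsg.Agent.H632.Net
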