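import Mathlib

/-!
# Two lemmas on bilinear maps on a three-dimensional space

* `four`: a quadrilinear form on a three-dimensional space vanishing when two adjacent arguments are
  equal is zero; `fourN`: the version twisted by a surjective linear map `N` with
  `μ(x, N x) = 0`;
* `corner`: `μ` with independent commutators and without left kernel cannot have two-dimensional
  `V₁`, `V₁'` with `μ(V, V₁)` and `μ(V₁', V)` one-dimensional.
-/

set_option autoImplicit false

namespace Cfsg.Agent.H632.Net2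

open Module

variable {K V W : Type*} [Field K] [AddCommGroup V] [Module K V] [AddCommGroup W] [Module K W]

theorem four (h3 : finrank K V = 3) (F : V →ₗ[K] V →ₗ[K] V →ₗ[K] V →ₗ[K] K)
    (h01 : ∀ u w z, F u u w z = 0) (h12 : ∀ u v z, F u v v z = 0)
    (h23 : ∀ u v w, F u v w w = 0) (u v w z : V) : F u v w z = 0 := by
  have h02 : ∀ u v z, F u v u z = 0 := by
    intro u v z
    have h := h12 u (u + v) z
    simp only [map_add, LinearMap.add_apply, h01, h12, zero_add, add_zero] at h
    exact h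
  have h13 : ∀ u v w, F u v w v = 0 := by
    intro u v w
    have h := h23 u v (v + w)
    simp only [map_add, LinearMap.add_apply, h12, h23, zero_add, add_zero] at h
    exact h
  have h03 : ∀ u v w, F u v w u = 0 := by
    intro u v w
    have h := h23 u v (u + w)
    simp only [map_add, LinearMap.add_apply, h02, h23, zero_add, add_zero] at h
    exact h
  have hfV : FiniteDimensional K V := FiniteDimensional.of_finrank_pos (by omega)
  have hdep : ¬ LinearIndependent K ![u, v, w, z] := by
    intro h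
    have := h.fintype_card_le_finrank
    rw [Fintype.card_fin, h3] at this
    omega
  rw [Fintype.not_linearIndependent_iff] at hdep
  obtain ⟨g, hg, i, hi⟩ := hdep
  rw [Fin.sum_univ_four] at hg
  simp only [Matrix.cons_val_zero, Matrix.cons_val_one, Matrix.cons_val] at hg
  by_cases h3' : g 3 = 0
  · by_cases h2' : g 2 = 0
    · by_cases h1' : g 1 = 0
      · have h0' : g 0 ≠ 0 := by
          intro h0'
          apply hi
          fin_cases i
          · exact h0'
          · exact h1'
          · exact h2'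
          · exact h3'
        rw [h1', h2', h3', zero_smul, zero_smul, zero_smul, add_zero, add_zero, add_zero] at hg
        rw [(smul_eq_zero.1 hg).resolve_left h0']
        simp
      · rw [h2', h3', zero_smul, zero_smul, add_zero, add_zero] at hg
        have h4 : g 1 • v = -(g 0 • u) := by rw [eq_neg_iff_add_eq_zero, ← hg]; abel
        have h5 : g 1 * F u v w z = 0 := by
          have : F u (g 1 • v) w z = F u (-(g 0 • u)) w z := by rw [h4]
          simpa [h01] using this
        exact (mul_eq_zero.1 h5).resolve_left h1'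
    · rw [h3', zero_smul, add_zero] at hg
      have h4 : g 2 • w = -(g 0 • u + g 1 • v) := by rw [eq_neg_iff_add_eq_zero, ← hg]; abel
      have h5 : g 2 * F u v w z = 0 := by
        have : F u v (g 2 • w) z = F u v (-(g 0 • u + g 1 • v)) z := by rw [h4]
        simpa [h02, h12] using this
      exact (mul_eq_zero.1 h5).resolve_left h2'
  · have h4 : g 3 • z = -(g 0 • u + g 1 • v + g 2 • w) := by
      rw [eq_neg_iff_add_eq_zero, ← hg]; abel
    have h5 : g 3 * F u v w z = 0 := by
      have : F u v w (g 3 • z) = F u v w (-(g 0 • u + g 1 • v + g 2 • w)) := by rw [h4]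
      simpa [h03, h13, h23] using this
    exact (mul_eq_zero.1 h5).resolve_left h3'

theorem fourN (h3 : finrank K V = 3) (μ : V →ₗ[K] V →ₗ[K] W)
    (F : V →ₗ[K] V →ₗ[K] V →ₗ[K] V →ₗ[K] K)
    (h01 : ∀ u v w z, μ u v = 0 → F u v w z = 0) (h12 : ∀ u v w z, μ v w = 0 → F u v w z = 0)
    (h23 : ∀ u v w z, μ w z = 0 → F u v w z = 0) (N : V →ₗ[K] V)
    (hN : Function.Surjective N) (hμ : ∀ x, μ x (N x) = 0) (u v w z : V) : F u v w z = 0 := by
  let F' : V →ₗ[K] V →ₗ[K] V →ₗ[K] V →ₗ[K] K :=
    LinearMap.mk₂ K (fun u v => LinearMap.mk₂ K (fun w z => F u (N v) (N (N w)) (N (N (N z))))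
      (by intros; simp) (by intros; simp) (by intros; simp) (by intros; simp))
      (by intros; ext; simp) (by intros; ext; simp) (by intros; ext; simp) (by intros; ext; simp)
  have hF' : ∀ u v w z, F' u v w z = F u (N v) (N (N w)) (N (N (N z))) := fun _ _ _ _ => rfl
  obtain ⟨v, rfl⟩ := hN v
  obtain ⟨w, rfl⟩ := hN w
  obtain ⟨w, rfl⟩ := hN w
  obtain ⟨z, rfl⟩ := hN z
  obtain ⟨z, rfl⟩ := hN z
  obtain ⟨z, rfl⟩ := hN z
  rw [← hF']
  refine four h3 F' ?_ ?_ ?_ u v w z
  · intro u w z
    rw [hF']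
    exact h01 _ _ _ _ (hμ _)
  · intro u v z
    rw [hF']
    exact h12 _ _ _ _ (hμ _)
  · intro u v w
    rw [hF']
    exact h23 _ _ _ _ (hμ _)

theorem corner (h3 : finrank K V = 3) (μ : V →ₗ[K] V →ₗ[K] W)
    (hc : ∀ u v, μ u v = μ v u → ¬ LinearIndependent K ![u, v])
    (h0 : ∀ v, (∀ x, μ v x = 0) → v = 0)
    (h1 : ∃ v₁ v₂ : V, LinearIndependent K ![v₁, v₂] ∧
      ∃ g : W, ∀ x, (∃ c : K, μ x v₁ = c • g) ∧ ∃ c : K, μ x v₂ = c • g)
    (h2 : ∃ v₁ v₂ : V, LinearIndependent K ![v₁, v₂] ∧
      ∃ g : W, ∀ x, (∃ c : K, μ v₁ x = c • g) ∧ ∃ c : K, μ v₂ x = c • g) : False := by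
  have hfV : FiniteDimensional K V := FiniteDimensional.of_finrank_pos (by omega)
  obtain ⟨v₁, v₂, hv, g, hg⟩ := h1
  obtain ⟨w₁, w₂, hw, g', hg'⟩ := h2
  rw [LinearIndependent.pair_iff] at hv hw
  -- left and right subspaces
  have hL : ∀ a b : K, ∀ x, ∃ c : K, μ x (a • v₁ + b • v₂) = c • g := by
    intro a b x
    obtain ⟨⟨c, hc⟩, d, hd⟩ := hg x
    exact ⟨a * c + b * d, by rw [map_add, map_smul, map_smul, hc, hd]; module⟩
  have hR : ∀ a b : K, ∀ x, ∃ c : K, μ (a • w₁ + b • w₂) x = c • g' := by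
    intro a b x
    obtain ⟨⟨c, hc⟩, d, hd⟩ := hg' x
    exact ⟨a * c + b * d, by
      rw [map_add, map_smul, map_smul, LinearMap.add_apply, LinearMap.smul_apply,
        LinearMap.smul_apply, hc, hd]; module⟩
  -- a common vector
  have hdep : ¬ LinearIndependent K ![v₁, v₂, w₁, w₂] := by
    intro h
    have := h.fintype_card_le_finrank
    rw [Fintype.card_fin, h3] at this
    omega
  rw [Fintype.not_linearIndependent_iff] at hdep
  obtain ⟨k, hk, i, hi⟩ := hdep
  rw [Fin.sum_univ_four] at hk
  simp only [Matrix.cons_val_zero, Matrix.cons_val_one, Matrix.cons_val] at hk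
  set v := k 0 • v₁ + k 1 • v₂ with hvdef
  have hv' : v = (-k 2) • w₁ + (-k 3) • w₂ := by
    have : v + (k 2 • w₁ + k 3 • w₂) = 0 := by rw [← add_assoc]; exact hk
    rw [eq_neg_of_add_eq_zero_left this]
    module
  have hv0 : v ≠ 0 := by
    intro h
    have e1 := hv _ _ (hvdef.symm.trans h)
    rw [h] at hv'
    have e2 := hw _ _ hv'.symm
    apply hi
    fin_cases i
    · exact e1.1
    · exact e1.2
    · exact neg_eq_zero.1 e2.1
    · exact neg_eq_zero.1 e2.2
  -- completing `v` in the two subspaces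
  obtain ⟨a, b, hab⟩ : ∃ a b : K, LinearIndependent K ![v, a • v₁ + b • v₂] := by
    by_cases h : k 0 = 0
    · refine ⟨1, 0, ?_⟩
      rw [LinearIndependent.pair_iff]
      intro s t hst
      have : (t) • v₁ + (s * k 1) • v₂ = 0 := by
        rw [← hst, hvdef, h]; module
      obtain ⟨e1, e2⟩ := hv _ _ this
      refine ⟨?_, e1⟩
      rcases mul_eq_zero.1 e2 with e3 | e3
      · exact e3
      · exfalso
        apply hv0
        rw [hvdef, h, e3, zero_smul, zero_smul, add_zero]
    · refine ⟨0, 1, ?_⟩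
      rw [LinearIndependent.pair_iff]
      intro s t hst
      have : (s * k 0) • v₁ + (s * k 1 + t) • v₂ = 0 := by
        rw [← hst, hvdef]; module
      obtain ⟨e1, e2⟩ := hv _ _ this
      have e3 := (mul_eq_zero.1 e1).resolve_right h
      rw [e3, zero_mul, zero_add] at e2
      exact ⟨e3, e2⟩
  obtain ⟨a', b', hab'⟩ : ∃ a b : K, LinearIndependent K ![v, a • w₁ + b • w₂] := by
    by_cases h : -k 2 = 0
    · refine ⟨1, 0, ?_⟩
      rw [LinearIndependent.pair_iff]
      intro s t hst
      have : (t) • w₁ + (s * (-k 3)) • w₂ = 0 := by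
        rw [← hst, hv', h]; module
      obtain ⟨e1, e2⟩ := hw _ _ this
      refine ⟨?_, e1⟩
      rcases mul_eq_zero.1 e2 with e3 | e3
      · exact e3
      · exfalso
        apply hv0
        rw [hv', h, e3, zero_smul, zero_smul, add_zero]
    · refine ⟨0, 1, ?_⟩
      rw [LinearIndependent.pair_iff]
      intro s t hst
      have : (s * (-k 2)) • w₁ + (s * (-k 3) + t) • w₂ = 0 := by
        rw [← hst, hv']; module
      obtain ⟨e1, e2⟩ := hw _ _ this
      have e3 := (mul_eq_zero.1 e1).resolve_right h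
      rw [e3, zero_mul, zero_add] at e2
      exact ⟨e3, e2⟩
  set w := a • v₁ + b • v₂ with hwdef
  set w' := a' • w₁ + b' • w₂ with hw'def
  have Lv : ∀ x, ∃ c : K, μ x v = c • g := hL _ _
  have Lw : ∀ x, ∃ c : K, μ x w = c • g := hL _ _
  have Rv : ∀ x, ∃ c : K, μ v x = c • g' := by
    intro x
    rw [hv']
    exact hR _ _ x
  have Rw : ∀ x, ∃ c : K, μ w' x = c • g' := hR _ _
  -- the commutators
  obtain ⟨γ, hγ⟩ : ∃ γ : K, μ v w - μ w v = γ • g := by
    obtain ⟨c, hc⟩ := Lw v
    obtain ⟨d, hd⟩ := Lv w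
    exact ⟨c - d, by rw [hc, hd, sub_smul]⟩
  obtain ⟨γ', hγ'⟩ : ∃ γ : K, μ v w' - μ w' v = γ • g' := by
    obtain ⟨c, hc⟩ := Rv w'
    obtain ⟨d, hd⟩ := Rw v
    exact ⟨c - d, by rw [hc, hd, sub_smul]⟩
  have hγ0 : γ ≠ 0 := by
    intro h
    rw [h, zero_smul, sub_eq_zero] at hγ
    exact hc _ _ hγ hab
  have hγ0' : γ' ≠ 0 := by
    intro h
    rw [h, zero_smul, sub_eq_zero] at hγ'
    exact hc _ _ hγ' hab'
  -- `g` and `g'` are independent
  have hgg : ∀ c : K, g' ≠ c • g := by
    intro c hcg
    -- all commutators `[v, y]` are multiples of `[v, w]`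
    have h5 : ∀ y, ∃ d : K, y - d • w ∈ Submodule.span K {v} := by
      intro y
      obtain ⟨c1, hc1⟩ := Lv y
      obtain ⟨c2, hc2⟩ := Rv y
      refine ⟨(c2 * c - c1) * γ⁻¹, ?_⟩
      by_contra hne
      have hind : LinearIndependent K ![v, y - ((c2 * c - c1) * γ⁻¹) • w] := by
        rw [LinearIndependent.pair_iff' hv0]
        intro a ha
        apply hne
        rw [Submodule.mem_span_singleton]
        exact ⟨a, ha⟩
      refine hc _ _ ?_ hind
      rw [← sub_eq_zero]
      have h6 : μ v (y - ((c2 * c - c1) * γ⁻¹) • w) - μ (y - ((c2 * c - c1) * γ⁻¹) • w) v =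
          (μ v y - μ y v) - ((c2 * c - c1) * γ⁻¹) • (μ v w - μ w v) := by
        rw [map_sub, map_smul, map_sub, map_smul, LinearMap.sub_apply, LinearMap.smul_apply]
        module
      rw [h6, hγ, hc1, hc2, hcg, smul_smul, smul_smul, mul_assoc, inv_mul_cancel₀ hγ0, mul_one,
        ← sub_smul, sub_self]
    have h7 : (⊤ : Submodule K V) ≤ Submodule.span K {v, w} := by
      intro y _
      obtain ⟨d, hd⟩ := h5 y
      obtain ⟨e, he⟩ := Submodule.mem_span_singleton.1 hd
      rw [Submodule.mem_span_pair]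
      exact ⟨e, d, by rw [he]; abel⟩
    have h6 := Submodule.finrank_mono h7
    have h7 : finrank K (Submodule.span K {v, w}) ≤ 2 := by
      classical
      have h8 := finrank_span_finset_le_card (R := K) ({v, w} : Finset V)
      have h9 : ({v, w} : Finset V).card ≤ 2 := Finset.card_le_two
      have h10 : (Submodule.span K (({v, w} : Finset V) : Set V)) = Submodule.span K {v, w} := by
        congr 1
        simp
      have h11 : finrank K (Submodule.span K {v, w}) ≤ ({v, w} : Finset V).card := by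
        rw [← h10]
        exact h8
      omega
    rw [finrank_top] at h6
    omega
  have hg0 : g ≠ 0 := by
    intro h
    rw [h, smul_zero, sub_eq_zero] at hγ
    exact hc _ _ hγ hab
  have hboth : ∀ t : W, (∃ c : K, t = c • g) → (∃ c : K, t = c • g') → t = 0 := by
    rintro t ⟨c, hct⟩ ⟨d, hdt⟩
    by_cases hd : d = 0
    · rw [hdt, hd, zero_smul]
    · exfalso
      apply hgg (d⁻¹ * c)
      rw [mul_smul, ← hct, hdt, smul_smul, inv_mul_cancel₀ hd, one_smul]
  have z1 : μ v v = 0 := hboth _ (Lv v) (Rv v)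
  have z2 : μ v w = 0 := hboth _ (Lw v) (Rv w)
  have z3 : μ w' v = 0 := hboth _ (Lv w') (Rw v)
  have z4 : μ w' w = 0 := hboth _ (Lw w') (Rw w)
  -- `v, w, w'` is a basis
  have hind3 : LinearIndependent K ![v, w, w'] := by
    rw [Fintype.linearIndependent_iff]
    intro s hs
    rw [Fin.sum_univ_three] at hs
    simp only [Matrix.cons_val_zero, Matrix.cons_val_one, Matrix.cons_val] at hs
    have e2 : s 2 = 0 := by
      by_contra hne
      -- `[v, w'] ∈ K [v, w]`
      apply hgg (-(s 2)⁻¹ * s 1 * γ * γ'⁻¹)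
      have h5 : s 2 • w' = -(s 0 • v + s 1 • w) := by
        rw [eq_neg_iff_add_eq_zero, ← hs]; abel
      have h6 : s 2 • (μ v w' - μ w' v) = -(s 1 • (μ v w - μ w v)) := by
        have : s 2 • (μ v w' - μ w' v) = μ v (s 2 • w') - μ (s 2 • w') v := by
          rw [map_smul, map_smul, LinearMap.smul_apply, smul_sub]
        rw [this, h5]
        simp only [map_neg, map_add, map_smul, LinearMap.neg_apply, LinearMap.add_apply,
          LinearMap.smul_apply]
        module
      rw [hγ, hγ'] at h6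
      calc g' = (s 2)⁻¹ • γ'⁻¹ • (s 2 • γ' • g') := by
            rw [smul_smul, smul_smul, smul_smul]
            have : (s 2)⁻¹ * γ'⁻¹ * (s 2) * γ' = 1 := by field_simp
            rw [this, one_smul]
        _ = _ := by rw [h6]; module
    rw [e2, zero_smul, add_zero] at hs
    obtain ⟨e0, e1⟩ := LinearIndependent.pair_iff.1 hab _ _ hs
    intro i
    fin_cases i
    · exact e0
    · exact e1
    · exact e2
  have hspan : ∀ y : V, ∃ c₀ c₁ c₂ : K, y = c₀ • v + c₁ • w + c₂ • w' := by
    intro y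
    have hb := hind3.span_eq_top_of_card_eq_finrank (by rw [Fintype.card_fin, h3])
    have hy : y ∈ Submodule.span K (Set.range ![v, w, w']) := by
      rw [hb]; exact Submodule.mem_top
    rw [Submodule.mem_span_range_iff_exists_fun] at hy
    obtain ⟨s, hs⟩ := hy
    rw [Fin.sum_univ_three] at hs
    refine ⟨s 0, s 1, s 2, ?_⟩
    rw [← hs]
    simp
  obtain ⟨α, hα⟩ := Rv w'
  obtain ⟨β, hβ⟩ := Rw w'
  have hindw : ∀ s t : K, s • v + t • w' = 0 → s = 0 ∧ t = 0 :=
    LinearIndependent.pair_iff.1 hab'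
  by_cases hα0 : α = 0
  · apply hv0
    apply h0
    intro y
    obtain ⟨c₀, c₁, c₂, rfl⟩ := hspan y
    rw [map_add, map_add, map_smul, map_smul, map_smul, z1, z2, hα, hα0]
    simp
  · have h5 : β • v + (-α) • w' = 0 := by
      apply h0
      intro y
      obtain ⟨c₀, c₁, c₂, rfl⟩ := hspan y
      simp only [map_add, map_smul, LinearMap.add_apply, LinearMap.smul_apply, z1, z2, z3, z4,
        hα, hβ]
      module
    exact hα0 (neg_eq_zero.1 (hindw _ _ h5).2)

end Cfsg.Agent.H632.Net2
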