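import Mathlib
import Cfsg.Agent.H632.SymLocal

/-!
# Local symmetric algebras: the top form

Context: `lam` symmetrizing form, `J = ker π`, `J^(m+1) = 0 ≠ J^m`, `4 ≤ m`, and every element of
`J²` is a sum of commutators modulo `J^m`. Congruences "in degree `k`" are modulo
`perp (J^(m-k))`.
-/

set_option autoImplicit false

namespace Cfsg.Agent.H632.Three

open Module Cfsg.Agent.H632.SymLocal

variable {K A : Type*} [Field K] [Ring A] [Algebra K A]

/-- The space of commutators of elements of two subspaces. -/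
def comm (U W : Submodule K A) : Submodule K A :=
  Submodule.span K {x | ∃ a ∈ U, ∃ b ∈ W, x = a * b - b * a}

/-- The context. -/
structure Ctx (lam : A →ₗ[K] K) (π : A →ₐ[K] K) (m : ℕ) : Prop where
  symm : ∀ a b, lam (a * b) = lam (b * a)
  nd : ∀ a, (∀ b, lam (a * b) = 0) → a = 0
  top : J π ^ (m + 1) = ⊥
  ne : J π ^ m ≠ ⊥
  hm : 4 ≤ m
  hcomm : ∀ c ∈ J π ^ 2, ∃ c' ∈ comm (J π) (J π), ∃ s ∈ J π ^ m, c = c' + s

variable {lam : A →ₗ[K] K} {π : A →ₐ[K] K} {m : ℕ}

theorem mul_mem {i j : ℕ} {a b : A} (ha : a ∈ J π ^ i) (hb : b ∈ J π ^ j) :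
    a * b ∈ J π ^ (i + j) := by
  rw [pow_add]
  exact Submodule.mul_mem_mul ha hb

theorem pow_anti {i j : ℕ} (hi : 1 ≤ i) (hij : i ≤ j) : J π ^ j ≤ J π ^ i := by
  induction j, hij using Nat.le_induction with
  | base => exact le_rfl
  | succ j hj ih =>
    refine le_trans ?_ ih
    obtain ⟨k, rfl⟩ := Nat.exists_eq_add_of_le' (hi.trans hj)
    rw [pow_succ _ (k + 1), Submodule.mul_le]
    intro a ha b _
    exact mul_mem_pow_right k b ha

theorem Ctx.eq_zero (h : Ctx lam π m) {i : ℕ} (hi : m + 1 ≤ i) {a : A} (ha : a ∈ J π ^ i) :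
    a = 0 := by
  have h1 := pow_anti (by omega) hi ha
  rw [h.top] at h1
  exact (Submodule.mem_bot K).1 h1

theorem mem_J_pow_one {a : A} : a ∈ J π ^ 1 ↔ a ∈ J π := by rw [pow_one]

theorem perp_mul_right {i j : ℕ} {a b : A} (ha : a ∈ perp lam (J π ^ (i + j)))
    (hb : b ∈ J π ^ i) : a * b ∈ perp lam (J π ^ j) := by
  intro c hc
  rw [mul_assoc]
  exact ha _ (mul_mem hb hc)

theorem Ctx.perp_mul_left (h : Ctx lam π m) {i j : ℕ} {a b : A}
    (ha : a ∈ perp lam (J π ^ (i + j))) (hb : b ∈ J π ^ i) : b * a ∈ perp lam (J π ^ j) := by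
  intro c hc
  rw [mul_assoc, h.symm, mul_assoc]
  apply ha
  rw [add_comm]
  exact mul_mem hc hb

theorem Ctx.pow_le_perp (h : Ctx lam π m) {i j : ℕ} (hij : m + 1 ≤ i + j) :
    J π ^ i ≤ perp lam (J π ^ j) := by
  intro a ha c hc
  rw [h.eq_zero hij (mul_mem ha hc), map_zero]

theorem Ctx.perp_symm (h : Ctx lam π m) {W : Submodule K A} {a b : A} (ha : a ∈ perp lam W)
    (hb : b ∈ W) : lam (b * a) = 0 := by
  rw [h.symm]
  exact ha b hb

/-- The form does not vanish on `J^m`. -/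
theorem Ctx.exists_lam_ne (h : Ctx lam π m) : ∃ s ∈ J π ^ m, lam s ≠ 0 := by
  by_contra hcon
  push Not at hcon
  apply h.ne
  rw [eq_bot_iff]
  intro b hb
  refine h.nd b fun c => ?_
  obtain ⟨n, rfl⟩ := Nat.exists_eq_add_of_le' (show 1 ≤ m by have := h.hm; omega)
  exact hcon _ (mul_mem_pow_right n c hb)

theorem comm_le_perp {U W : Submodule K A} {P : Submodule K A}
    (h : ∀ a ∈ U, ∀ b ∈ W, a * b - b * a ∈ P) : comm U W ≤ P := by
  rw [comm, Submodule.span_le]
  rintro _ ⟨a, ha, b, hb, rfl⟩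
  exact h a ha b hb

theorem Ctx.sq_not_le (h : Ctx lam π m) : ¬ J π ^ 2 ≤ perp lam (J π ^ (m - 2)) := by
  intro hle
  obtain ⟨s, hs, hs0⟩ := h.exists_lam_ne
  apply hs0
  have h1 : m = 2 + (m - 2) := by have := h.hm; omega
  rw [h1, pow_add] at hs
  induction hs using Submodule.mul_induction_on' with
  | mem_mul_mem a ha b hb => exact hle ha b hb
  | add a _ b _ ha hb =>
    by_cases h2 : lam a = 0
    · by_cases h3 : lam b = 0
      · rw [map_add, h2, h3, add_zero]
      · exact absurd (hb h3) h3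
    · exact absurd (ha h2) h2

/-- If the degree two part is one-dimensional, then the commutators vanish there. -/
theorem Ctx.lemmaS (h : Ctx lam π m) (g : A)
    (hg : ∀ c ∈ J π ^ 2, ∃ d : K, c - d • g ∈ perp lam (J π ^ (m - 2))) : False := by
  have hm := h.hm
  -- an element on which `g` does not vanish
  obtain ⟨w, hw, c, hc, hgwc⟩ : ∃ w ∈ J π, ∃ c ∈ J π ^ (m - 3), lam (g * w * c) ≠ 0 := by
    by_contra hcon
    push Not at hcon
    apply h.sq_not_le
    intro a ha
    obtain ⟨d, hd⟩ := hg a ha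
    have hg0 : g ∈ perp lam (J π ^ (m - 2)) := by
      intro b hb
      have h1 : m - 2 = 1 + (m - 3) := by omega
      rw [h1, pow_add, pow_one] at hb
      induction hb using Submodule.mul_induction_on' with
      | mem_mul_mem a ha b hb => rw [← mul_assoc]; exact hcon a ha b hb
      | add a _ b _ ha hb => rw [mul_add, map_add, ha, hb, add_zero]
    have := add_mem hd (Submodule.smul_mem _ d hg0)
    rwa [sub_add_cancel] at this
  have hex : ∀ u v : A, ∃ d : K, u ∈ J π → v ∈ J π →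
      u * v - d • g ∈ perp lam (J π ^ (m - 2)) := by
    intro u v
    by_cases huv : u ∈ J π ∧ v ∈ J π
    · obtain ⟨d, hd⟩ := hg (u * v) (by rw [pow_two]; exact Submodule.mul_mem_mul huv.1 huv.2)
      exact ⟨d, fun _ _ => hd⟩
    · exact ⟨0, fun h1 h2 => absurd ⟨h1, h2⟩ huv⟩
  choose β hβ using hex
  have key : ∀ u ∈ J π, ∀ v ∈ J π, ∀ w' ∈ J π,
      β u v * lam (g * w' * c) = β v w' * lam (u * g * c) := by
    intro u hu v hv w' hw'
    have h1 := hβ u v hu hv (w' * c) (by
      have := mul_mem (mem_J_pow_one.2 hw') hc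
      rwa [show 1 + (m - 3) = m - 2 by omega] at this)
    have h2 := hβ v w' hv hw' (c * u) (by
      have := mul_mem hc (mem_J_pow_one.2 hu)
      rwa [show m - 3 + 1 = m - 2 by omega] at this)
    rw [sub_mul, map_sub, smul_mul_assoc, map_smul, smul_eq_mul, sub_eq_zero] at h1 h2
    have h3 : lam (u * v * (w' * c)) = lam (v * w' * (c * u)) := by
      rw [← mul_assoc (v * w'), h.symm (v * w' * c) u]
      congr 1
      noncomm_ring
    have h4 : lam (g * (c * u)) = lam (u * g * c) := by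
      rw [← mul_assoc, h.symm, ← mul_assoc]
    rw [mul_assoc g w' c, ← h1, h3, h2, h4]
  set φ := lam (g * w * c) with hφ
  have hsym : ∀ u ∈ J π, ∀ v ∈ J π, β u v = β v u := by
    intro u hu v hv
    have e1 := key u hu v hv w hw
    have e2 := key v hv u hu w hw
    have e3 := key u hu w hw w hw
    have e4 := key v hv w hw w hw
    have : φ * φ * (β u v - β v u) = 0 := by
      linear_combination φ * e1 + lam (u * g * c) * e4 - φ * e2 - lam (v * g * c) * e3
    rcases mul_eq_zero.1 this with h5 | h5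
    · exact absurd h5 (mul_ne_zero hgwc hgwc)
    · exact sub_eq_zero.1 h5
  apply h.sq_not_le
  intro a ha
  obtain ⟨c', hc', s, hs, rfl⟩ := h.hcomm a ha
  refine add_mem (comm_le_perp (fun u hu v hv => ?_) hc') (h.pow_le_perp (by omega) hs)
  have h6 := sub_mem (hβ u v hu hv) (hβ v u hv hu)
  rw [hsym u hu v hv] at h6
  have h7 : u * v - β v u • g - (v * u - β v u • g) = u * v - v * u := by abel
  rwa [h7] at h6

/-- If `J` is spanned by two elements modulo elements orthogonal to `J^(m-1)`: contradiction. -/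
theorem Ctx.lemmaTwo (h : Ctx lam π m) {x y : A} (hx : x ∈ J π) (hy : y ∈ J π)
    (hxy : ∀ a ∈ J π, ∃ c d : K, a - (c • x + d • y) ∈ perp lam (J π ^ (m - 1))) : False := by
  have hm := h.hm
  apply h.lemmaS (x * y - y * x)
  intro a ha
  obtain ⟨c', hc', s, hs, rfl⟩ := h.hcomm a ha
  have hspan : comm (J π) (J π) ≤
      Submodule.span K {x * y - y * x} ⊔ perp lam (J π ^ (m - 2)) := by
    apply comm_le_perp
    intro u hu v hv
    obtain ⟨c₁, d₁, h1⟩ := hxy u hu
    obtain ⟨c₂, d₂, h2⟩ := hxy v hv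
    rw [Submodule.mem_sup]
    refine ⟨(c₁ * d₂ - d₁ * c₂) • (x * y - y * x), Submodule.smul_mem _ _
      (Submodule.mem_span_singleton_self _), u * v - v * u -
        (c₁ * d₂ - d₁ * c₂) • (x * y - y * x), ?_, by abel⟩
    set n₁ := u - (c₁ • x + d₁ • y) with hn₁
    set n₂ := v - (c₂ • x + d₂ • y) with hn₂
    have hm1 : m - 1 = 1 + (m - 2) := by omega
    rw [hm1] at h1 h2
    have hx1 : c₁ • x + d₁ • y ∈ J π ^ 1 := by
      rw [pow_one]
      exact add_mem (Submodule.smul_mem _ _ hx) (Submodule.smul_mem _ _ hy)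
    have e : u * v - v * u - (c₁ * d₂ - d₁ * c₂) • (x * y - y * x) =
        (n₁ * v - v * n₁) + ((c₁ • x + d₁ • y) * n₂ - n₂ * (c₁ • x + d₁ • y)) := by
      have eu : u = n₁ + (c₁ • x + d₁ • y) := by rw [hn₁]; abel
      have ev : v = n₂ + (c₂ • x + d₂ • y) := by rw [hn₂]; abel
      have h5 : (c₁ • x + d₁ • y) * (c₂ • x + d₂ • y) - (c₂ • x + d₂ • y) * (c₁ • x + d₁ • y) =
          (c₁ * d₂ - d₁ * c₂) • (x * y - y * x) := by
        simp only [add_mul, mul_add, smul_mul_assoc, mul_smul_comm]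
        module
      rw [← h5]
      clear_value n₁ n₂
      clear h5 hx1 h1 h2
      generalize c₁ • x + d₁ • y = p at *
      generalize c₂ • x + d₂ • y = q at *
      subst eu ev
      noncomm_ring
    rw [e]
    exact add_mem (sub_mem (perp_mul_right h1 (mem_J_pow_one.2 hv))
      (h.perp_mul_left h1 (mem_J_pow_one.2 hv)))
      (sub_mem (h.perp_mul_left h2 hx1) (perp_mul_right h2 hx1))
  obtain ⟨t, ht, r, hr, htr⟩ := Submodule.mem_sup.1 (hspan hc')
  obtain ⟨d, hd⟩ := Submodule.mem_span_singleton.1 ht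
  refine ⟨d, ?_⟩
  have : c' + s - d • (x * y - y * x) = r + s := by rw [← htr, hd]; abel
  rw [this]
  exact add_mem hr (h.pow_le_perp (by omega) hs)

/-- A complement inside a subspace. -/
theorem exists_compl_in [FiniteDimensional K A] {U W : Submodule K A} (hUW : U ≤ W) :
    ∃ C : Submodule K A, C ≤ W ∧ (∀ w ∈ W, ∃ c ∈ C, w - c ∈ U) ∧ C ⊓ U = ⊥ ∧
      finrank K C + finrank K U = finrank K W := by
  obtain ⟨C, hC⟩ := U.exists_isCompl
  refine ⟨C ⊓ W, inf_le_right, ?_, ?_, ?_⟩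
  · intro w hw
    have : w ∈ U ⊔ C := by rw [hC.sup_eq_top]; exact Submodule.mem_top
    obtain ⟨u, hu, c, hc, rfl⟩ := Submodule.mem_sup.1 this
    refine ⟨c, ⟨hc, ?_⟩, by rw [add_sub_cancel_right]; exact hu⟩
    have := sub_mem hw (hUW hu)
    rwa [add_sub_cancel_left] at this
  · rw [eq_bot_iff]
    rintro x ⟨⟨h1, -⟩, h2⟩
    have : x ∈ U ⊓ C := ⟨h2, h1⟩
    rwa [hC.inf_eq_bot] at this
  · have h1 : (C ⊓ W) ⊔ U = W := by
      apply le_antisymm
      · exact sup_le inf_le_right hUW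
      · intro w hw
        have : w ∈ U ⊔ C := by rw [hC.sup_eq_top]; exact Submodule.mem_top
        obtain ⟨u, hu, c, hc, rfl⟩ := Submodule.mem_sup.1 this
        rw [Submodule.mem_sup]
        refine ⟨c, ⟨hc, ?_⟩, u, hu, add_comm _ _⟩
        have := sub_mem hw (hUW hu)
        rwa [add_sub_cancel_left] at this
    have h2 : (C ⊓ W) ⊓ U = ⊥ := by
      rw [eq_bot_iff]
      rintro x ⟨⟨h1, -⟩, h2⟩
      have : x ∈ U ⊓ C := ⟨h2, h1⟩
      rwa [hC.inf_eq_bot] at this
    have h3 := Submodule.finrank_sup_add_finrank_inf_eq (C ⊓ W) U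
    rw [h1, h2, finrank_bot, add_zero] at h3
    exact h3.symm

/-- The top form is nondegenerate in degree one. -/
theorem Ctx.nondeg [FiniteDimensional K A] (h : Ctx lam π m)
    (h3 : finrank K (J π) = finrank K (J π ^ 2 : Submodule K A) + 3) {v : A} (hv : v ∈ J π)
    (hvp : v ∈ perp lam (J π ^ (m - 1))) : v ∈ J π ^ 2 := by
  have hm := h.hm
  by_contra hv2
  have hle : J π ^ 2 ⊔ Submodule.span K {v} ≤ J π := by
    apply sup_le
    · exact pow_le_J 1
    · rw [Submodule.span_singleton_le_iff_mem]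
      exact hv
  obtain ⟨C, hCJ, hC, hdis, hdim⟩ := exists_compl_in hle
  have h4 : finrank K (J π ^ 2 ⊔ Submodule.span K {v} : Submodule K A) =
      finrank K (J π ^ 2 : Submodule K A) + 1 := by
    have h5 := Submodule.finrank_sup_add_finrank_inf_eq (J π ^ 2) (Submodule.span K {v})
    have h6 : J π ^ 2 ⊓ Submodule.span K {v} = ⊥ := by
      rw [eq_bot_iff]
      rintro x ⟨h7, h8⟩
      obtain ⟨c, rfl⟩ := Submodule.mem_span_singleton.1 h8
      by_cases hc : c = 0
      · rw [hc, zero_smul]; exact zero_mem _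
      · exfalso
        apply hv2
        have := Submodule.smul_mem _ c⁻¹ h7
        rwa [smul_smul, inv_mul_cancel₀ hc, one_smul] at this
    have hv0 : v ≠ 0 := by
      rintro rfl
      exact hv2 (zero_mem _)
    rw [h6, finrank_bot, add_zero, finrank_span_singleton hv0] at h5
    exact h5
  have hC2 : finrank K C = 2 := by omega
  let b := Module.finBasisOfFinrankEq K C hC2
  refine h.lemmaTwo (x := b 0) (y := b 1) (hCJ (b 0).2) (hCJ (b 1).2) ?_
  intro a ha
  obtain ⟨c, hc, hac⟩ := hC a ha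
  refine ⟨b.repr ⟨c, hc⟩ 0, b.repr ⟨c, hc⟩ 1, ?_⟩
  have h5 : c = b.repr ⟨c, hc⟩ 0 • (b 0 : A) + b.repr ⟨c, hc⟩ 1 • (b 1 : A) := by
    have := congrArg Subtype.val (b.sum_repr ⟨c, hc⟩)
    rw [Fin.sum_univ_two] at this
    exact this.symm
  rw [← h5]
  obtain ⟨u, hu, w, hw, huw⟩ := Submodule.mem_sup.1 hac
  obtain ⟨d, rfl⟩ := Submodule.mem_span_singleton.1 hw
  rw [← huw]
  exact add_mem (h.pow_le_perp (by omega) hu) (Submodule.smul_mem _ _ hvp)

end Cfsg.Agent.H632.Three
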