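import Mathlib

/-!
# Three-dimensional Frobenius algebras with an automorphism fixing only the scalars

`st` is an associative unital multiplication on a three-dimensional space over an algebraically
closed field, `τ` an automorphism whose only fixed vectors are the multiples of the unit, `Λ` a
`τ`-invariant nondegenerate linear form with Nakayama map `σ`. Then `τ³ = 1` and `σ = 1`.
-/

set_option autoImplicit false

namespace Cfsg.Agent.H632.TripleAlg

open Module

variable {K V : Type*} [Field K] [AddCommGroup V] [Module K V]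

/-- A common eigenvector. -/
theorem exists_eigenline [IsAlgClosed K] [FiniteDimensional K V] (h3 : finrank K V = 3)
    (st : V →ₗ[K] V →ₗ[K] V) (e : V) (he1 : ∀ v, st e v = v)
    (hassoc : ∀ u v w, st (st u v) w = st u (st v w)) :
    ∃ v : V, v ≠ 0 ∧ ∀ u, ∃ c : K, st u v = c • v := by
  -- an element outside the scalars
  obtain ⟨u₀, hu₀⟩ : ∃ u : V, u ∉ Submodule.span K {e} := by
    by_contra hcon
    push Not at hcon
    have h1 : (⊤ : Submodule K V) ≤ Submodule.span K {e} := fun u _ => hcon u
    have h2 := Submodule.finrank_mono h1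
    have h4 : finrank K (Submodule.span K {e}) ≤ 1 := by
      have := finrank_span_le_card (R := K) ({e} : Set V)
      simpa using this
    rw [finrank_top] at h2
    omega
  have hnt : Nontrivial V := Module.nontrivial_of_finrank_pos (R := K) (by omega)
  obtain ⟨c, hc⟩ := Module.End.exists_eigenvalue (st u₀)
  obtain ⟨w, hw⟩ := hc.exists_hasEigenvector
  have hw0 : w ≠ 0 := hw.2
  have hww : st u₀ w = c • w := hw.apply_eq_smul
  set u := u₀ - c • e with hu
  have huw : st u w = 0 := by
    rw [hu, map_sub, map_smul, LinearMap.sub_apply, LinearMap.smul_apply, he1, hww, sub_self]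
  have hu0 : u ≠ 0 := by
    intro h
    apply hu₀
    rw [hu, sub_eq_zero] at h
    rw [h]
    exact Submodule.smul_mem _ _ (Submodule.mem_span_singleton_self e)
  -- the map `v ↦ v w`
  let R : V →ₗ[K] V := st.flip w
  have hR : ∀ v, R v = st v w := fun v => rfl
  have hker : u ∈ LinearMap.ker R := huw
  have hrn := LinearMap.finrank_range_add_finrank_ker R
  have hker1 : 1 ≤ finrank K (LinearMap.ker R) := by
    rw [Nat.one_le_iff_ne_zero]
    intro h0
    have : LinearMap.ker R = ⊥ := Submodule.finrank_eq_zero.1 h0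
    rw [this] at hker
    exact hu0 ((Submodule.mem_bot K).1 hker)
  have hrange1 : 1 ≤ finrank K (LinearMap.range R) := by
    rw [Nat.one_le_iff_ne_zero]
    intro h0
    have h1 : LinearMap.range R = ⊥ := Submodule.finrank_eq_zero.1 h0
    have h2 : w ∈ LinearMap.range R := ⟨e, he1 w⟩
    rw [h1] at h2
    exact hw0 ((Submodule.mem_bot K).1 h2)
  by_cases h1 : finrank K (LinearMap.range R) = 1
  · refine ⟨w, hw0, fun v => ?_⟩
    have h2 : w ∈ LinearMap.range R := ⟨e, he1 w⟩
    have hne : (⟨w, h2⟩ : LinearMap.range R) ≠ 0 := fun h => hw0 (congrArg Subtype.val h)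
    obtain ⟨c, hc⟩ := (finrank_eq_one_iff_of_nonzero' _ hne).1 h1 ⟨st v w, v, rfl⟩
    exact ⟨c, (congrArg Subtype.val hc).symm⟩
  · have h2 : finrank K (LinearMap.ker R) = 1 := by omega
    refine ⟨u, hu0, fun v => ?_⟩
    have hne : (⟨u, hker⟩ : LinearMap.ker R) ≠ 0 := fun h => hu0 (congrArg Subtype.val h)
    have h3 : st v u ∈ LinearMap.ker R := by
      show st (st v u) w = 0
      rw [hassoc, huw, map_zero]
    obtain ⟨c, hc⟩ := (finrank_eq_one_iff_of_nonzero' _ hne).1 h2 ⟨st v u, h3⟩
    exact ⟨c, (congrArg Subtype.val hc).symm⟩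

theorem main [IsAlgClosed K] [FiniteDimensional K V] (h3 : finrank K V = 3)
    (st : V →ₗ[K] V →ₗ[K] V) (e : V) (he1 : ∀ v, st e v = v) (he2 : ∀ v, st v e = v)
    (hassoc : ∀ u v w, st (st u v) w = st u (st v w)) (τ : V ≃ₗ[K] V)
    (hτ : ∀ u v, τ (st u v) = st (τ u) (τ v)) (Λ : V →ₗ[K] K) (hΛτ : ∀ v, Λ (τ v) = Λ v)
    (hnd : ∀ v, (∀ u, Λ (st u v) = 0) → v = 0) (hfix : ∀ v, τ v = v → ∃ c : K, v = c • e)
    (σ : V →ₗ[K] V) (hnak : ∀ u v, Λ (st u v) = Λ (st (σ v) u)) :
    (∀ v, τ (τ (τ v)) = v) ∧ ∀ v, σ v = v := by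
  obtain ⟨v, hv0, hv⟩ := exists_eigenline h3 st e he1 hassoc
  -- eigenvectors have nonzero `Λ`
  have hΛne : ∀ w : V, w ≠ 0 → (∀ u, ∃ c : K, st u w = c • w) → Λ w ≠ 0 := by
    intro w hw0 hw h
    apply hw0
    apply hnd
    intro u
    obtain ⟨c, hc⟩ := hw u
    rw [hc, map_smul, h, smul_zero]
  -- the image of an eigenvector is an eigenvector
  have hτe : ∀ w : V, (∀ u, ∃ c : K, st u w = c • w) → ∀ u, ∃ c : K, st u (τ w) = c • τ w := by
    intro w hw u
    obtain ⟨c, hc⟩ := hw (τ.symm u)
    refine ⟨c, ?_⟩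
    rw [← map_smul, ← hc, hτ, LinearEquiv.apply_symm_apply]
  have hv1 := hτe v hv
  have hv2 := hτe _ hv1
  have hv3 := hτe _ hv2
  choose χ₀ hχ₀ using hv
  choose χ₁ hχ₁ using hv1
  choose χ₂ hχ₂ using hv2
  choose χ₃ hχ₃ using hv3
  have hv1' : ∀ u, ∃ c : K, st u (τ v) = c • τ v := fun u => ⟨_, hχ₁ u⟩
  have hv2' : ∀ u, ∃ c : K, st u (τ (τ v)) = c • τ (τ v) := fun u => ⟨_, hχ₂ u⟩
  have h10 : τ v ≠ 0 := fun h => hv0 ((map_eq_zero_iff τ τ.injective).1 h)
  have h20 : τ (τ v) ≠ 0 := fun h => h10 ((map_eq_zero_iff τ τ.injective).1 h)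
  have h30 : τ (τ (τ v)) ≠ 0 := fun h => h20 ((map_eq_zero_iff τ τ.injective).1 h)
  have hΛ0 : Λ v ≠ 0 := hΛne v hv0 fun u => ⟨_, hχ₀ u⟩
  -- `τ v` is not a multiple of `v`
  have hn1 : ∀ c : K, τ v ≠ c • v := by
    intro c hc
    have h1 : Λ v = c * Λ v := by
      rw [← smul_eq_mul, ← map_smul, ← hc, hΛτ]
    have h2 : c = 1 := by
      have : (c - 1) * Λ v = 0 := by rw [sub_mul, one_mul, ← h1, sub_self]
      exact sub_eq_zero.1 ((mul_eq_zero.1 this).resolve_right hΛ0)
    rw [h2, one_smul] at hc
    obtain ⟨d, hd⟩ := hfix v hc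
    have hd0 : d ≠ 0 := by
      rintro rfl
      rw [zero_smul] at hd
      exact hv0 hd
    have h5 : (⊤ : Submodule K V) ≤ Submodule.span K {v} := by
      intro u _
      rw [Submodule.mem_span_singleton]
      refine ⟨d⁻¹ * χ₀ u, ?_⟩
      rw [mul_smul, ← hχ₀ u]
      have : st u v = d • u := by rw [hd, map_smul, he2]
      rw [this, smul_smul, inv_mul_cancel₀ hd0, one_smul]
    have h6 := Submodule.finrank_mono h5
    have h7 : finrank K (Submodule.span K {v}) ≤ 1 := by
      have := finrank_span_le_card (R := K) ({v} : Set V)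
      simpa using this
    rw [finrank_top] at h6
    omega
  -- eigenvectors with the same character are proportional
  have hsame : ∀ (w w' : V) (χ : V → K), w ≠ 0 → w' ≠ 0 → (∀ u, st u w = χ u • w) →
      (∀ u, st u w' = χ u • w') → ∃ c : K, w' = c • w := by
    intro w w' χ hw hw' h1 h2
    have hΛw : Λ w ≠ 0 := hΛne w hw fun u => ⟨_, h1 u⟩
    refine ⟨(Λ w)⁻¹ * Λ w', ?_⟩
    rw [← sub_eq_zero]
    apply hnd
    intro u
    rw [map_sub, map_smul, h1, h2, map_sub, map_smul, map_smul, map_smul]
    simp only [smul_eq_mul]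
    field_simp
    ring
  -- linear relations between eigenvectors
  have hindep : LinearIndependent K ![v, τ v, τ (τ v)] := by
    have h01 : LinearIndependent K ![v, τ v] := by
      rw [LinearIndependent.pair_iff' hv0]
      intro c hc
      exact hn1 c hc.symm
    rw [Fintype.linearIndependent_iff] at h01 ⊢
    intro g hg
    rw [Fin.sum_univ_three] at hg
    simp only [Matrix.cons_val_zero, Matrix.cons_val_one, Matrix.cons_val] at hg
    have h01' : ∀ a b : K, a • v + b • τ v = 0 → a = 0 ∧ b = 0 := by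
      intro a b hab
      have h := h01 ![a, b] (by
        rw [Fin.sum_univ_two]
        simpa using hab)
      exact ⟨by simpa using h 0, by simpa using h 1⟩
    by_cases hg2 : g 2 = 0
    · rw [hg2, zero_smul, add_zero] at hg
      obtain ⟨h0, h1⟩ := h01' _ _ hg
      intro i
      fin_cases i
      · exact h0
      · exact h1
      · exact hg2
    · exfalso
      -- `v₂ = a v₀ + b v₁`
      obtain ⟨a, b, hab⟩ : ∃ a b : K, τ (τ v) = a • v + b • τ v := by
        refine ⟨-(g 2)⁻¹ * g 0, -(g 2)⁻¹ * g 1, ?_⟩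
        have h1 : g 2 • τ (τ v) = -(g 0 • v + g 1 • τ v) := by
          rw [eq_neg_iff_add_eq_zero, ← hg]
          abel
        calc τ (τ v) = (g 2)⁻¹ • (g 2 • τ (τ v)) := by
              rw [smul_smul, inv_mul_cancel₀ hg2, one_smul]
          _ = _ := by
              rw [h1, smul_neg, smul_add, smul_smul, smul_smul, neg_mul, neg_mul, neg_smul,
                neg_smul]
              abel
      have hrel : ∀ u, a * (χ₂ u - χ₀ u) = 0 ∧ b * (χ₂ u - χ₁ u) = 0 := by
        intro u
        have h1 := hχ₂ u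
        rw [hab, map_add, map_smul, map_smul, hχ₀, hχ₁] at h1
        apply h01'
        have h2 : (a * (χ₂ u - χ₀ u)) • v + (b * (χ₂ u - χ₁ u)) • τ v =
            χ₂ u • (a • v + b • τ v) - (a • χ₀ u • v + b • χ₁ u • τ v) := by
          module
        rw [h2, h1, sub_self]
      by_cases ha : a = 0
      · -- `v₂ = b v₁`
        rw [ha, zero_smul, zero_add] at hab
        apply hn1 b
        apply τ.injective
        rw [hab, map_smul]
      · by_cases hb : b = 0
        · rw [hb, zero_smul, add_zero] at hab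
          have h1 : Λ v = a * Λ v := by
            rw [← smul_eq_mul, ← map_smul, ← hab, hΛτ, hΛτ]
          have h2 : a = 1 := by
            have : (a - 1) * Λ v = 0 := by rw [sub_mul, one_mul, ← h1, sub_self]
            exact sub_eq_zero.1 ((mul_eq_zero.1 this).resolve_right hΛ0)
          rw [h2, one_smul] at hab
          obtain ⟨d, hd⟩ := hfix (v + τ v) (by rw [map_add, hab, add_comm])
          have hd0 : d ≠ 0 := by
            rintro rfl
            rw [zero_smul] at hd
            have := h01' 1 1 (by rw [one_smul, one_smul, hd])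
            exact one_ne_zero this.1
          have h5 : (⊤ : Submodule K V) ≤ Submodule.span K {v, τ v} := by
            intro u _
            rw [Submodule.mem_span_pair]
            refine ⟨d⁻¹ * χ₀ u, d⁻¹ * χ₁ u, ?_⟩
            rw [mul_smul, mul_smul, ← hχ₀ u, ← hχ₁ u, ← smul_add, ← map_add, hd, map_smul, he2,
              smul_smul, inv_mul_cancel₀ hd0, one_smul]
          have h6 := Submodule.finrank_mono h5
          have h7 : finrank K (Submodule.span K {v, τ v}) ≤ 2 := by
            classical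
            have h8 := finrank_span_finset_le_card (R := K) ({v, τ v} : Finset V)
            have h9 : ({v, τ v} : Finset V).card ≤ 2 := Finset.card_le_two
            have h10 : (Submodule.span K (({v, τ v} : Finset V) : Set V)) =
                Submodule.span K {v, τ v} := by
              congr 1
              simp
            have h11 : finrank K (Submodule.span K {v, τ v}) ≤ ({v, τ v} : Finset V).card := by
              rw [← h10]
              exact h8
            omega
          rw [finrank_top] at h6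
          omega
        · -- both nonzero: equal characters
          have h1 : ∀ u, χ₁ u = χ₀ u := by
            intro u
            have e1 := (mul_eq_zero.1 (hrel u).1).resolve_left ha
            have e2 := (mul_eq_zero.1 (hrel u).2).resolve_left hb
            rw [sub_eq_zero] at e1 e2
            rw [← e1, e2]
          obtain ⟨c, hc⟩ := hsame v (τ v) χ₀ hv0 h10 hχ₀ (fun u => by rw [hχ₁, h1])
          exact hn1 c hc
  have hli : ∀ a b c : K, a • v + b • τ v + c • τ (τ v) = 0 → a = 0 ∧ b = 0 ∧ c = 0 := by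
    intro a b c habc
    have h := Fintype.linearIndependent_iff.1 hindep ![a, b, c] (by
      rw [Fin.sum_univ_three]
      simpa using habc)
    exact ⟨by simpa using h 0, by simpa using h 1, by simpa using h 2⟩
  have hspan : ∀ w : V, ∃ a b c : K, w = a • v + b • τ v + c • τ (τ v) := by
    intro w
    have hb := hindep.span_eq_top_of_card_eq_finrank (by rw [Fintype.card_fin, h3])
    have hw : w ∈ Submodule.span K (Set.range ![v, τ v, τ (τ v)]) := by
      rw [hb]; exact Submodule.mem_top
    rw [Submodule.mem_span_range_iff_exists_fun] at hw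
    obtain ⟨g, hg⟩ := hw
    rw [Fin.sum_univ_three] at hg
    refine ⟨g 0, g 1, g 2, ?_⟩
    rw [← hg]
    simp
  have hne01 : ∃ u, χ₀ u ≠ χ₁ u := by
    by_contra hcon
    push Not at hcon
    obtain ⟨c, hc⟩ := hsame v (τ v) χ₀ hv0 h10 hχ₀ (fun u => by rw [hχ₁, hcon])
    exact hn1 c hc
  have hne02 : ∃ u, χ₀ u ≠ χ₂ u := by
    by_contra hcon
    push Not at hcon
    obtain ⟨c, hc⟩ := hsame v (τ (τ v)) χ₀ hv0 h20 hχ₀ (fun u => by rw [hχ₂, hcon])
    have := hli c 0 (-1) (by rw [hc]; module)
    exact one_ne_zero (neg_eq_zero.1 this.2.2)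
  have hne12 : ∃ u, χ₁ u ≠ χ₂ u := by
    by_contra hcon
    push Not at hcon
    obtain ⟨c, hc⟩ := hsame (τ v) (τ (τ v)) χ₁ h10 h20 hχ₁ (fun u => by rw [hχ₂, hcon])
    have := hli 0 c (-1) (by rw [hc]; module)
    exact one_ne_zero (neg_eq_zero.1 this.2.2)
  -- `τ³ v = v`
  have hτ3v : τ (τ (τ v)) = v := by
    obtain ⟨a, b, c, habc⟩ := hspan (τ (τ (τ v)))
    have hrel : ∀ u, a * (χ₃ u - χ₀ u) = 0 ∧ b * (χ₃ u - χ₁ u) = 0 ∧ c * (χ₃ u - χ₂ u) = 0 := by
      intro u
      have h1 := hχ₃ u
      rw [habc, map_add, map_add, map_smul, map_smul, map_smul, hχ₀, hχ₁, hχ₂] at h1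
      apply hli
      have h2 : (a * (χ₃ u - χ₀ u)) • v + (b * (χ₃ u - χ₁ u)) • τ v +
          (c * (χ₃ u - χ₂ u)) • τ (τ v) = χ₃ u • (a • v + b • τ v + c • τ (τ v)) -
            (a • χ₀ u • v + b • χ₁ u • τ v + c • χ₂ u • τ (τ v)) := by
        module
      rw [h2, h1, sub_self]
    have key : ∀ (x y : K) (f g : V → K), (∀ u, x * (χ₃ u - f u) = 0) →
        (∀ u, y * (χ₃ u - g u) = 0) → (∃ u, f u ≠ g u) → x = 0 ∨ y = 0 := by
      intro x y f g hx hy ⟨u, hu⟩
      by_contra hcon
      push Not at hcon
      have e1 := (mul_eq_zero.1 (hx u)).resolve_left hcon.1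
      have e2 := (mul_eq_zero.1 (hy u)).resolve_left hcon.2
      rw [sub_eq_zero] at e1 e2
      exact hu (e1.symm.trans e2)
    by_cases ha : a = 0
    · exfalso
      rw [ha, zero_smul, zero_add] at habc
      rcases key b c χ₁ χ₂ (fun u => (hrel u).2.1) (fun u => (hrel u).2.2) hne12 with hb | hc
      · rw [hb, zero_smul, zero_add] at habc
        have h1 : τ (τ v) = c • τ v := by
          apply τ.injective
          rw [habc, map_smul]
        have := hli 0 c (-1) (by rw [h1]; module)
        exact one_ne_zero (neg_eq_zero.1 this.2.2)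
      · rw [hc, zero_smul, add_zero] at habc
        have h1 : τ (τ v) = b • v := by
          apply τ.injective
          rw [habc, map_smul]
        have := hli b 0 (-1) (by rw [h1]; module)
        exact one_ne_zero (neg_eq_zero.1 this.2.2)
    · have hb : b = 0 := (key a b χ₀ χ₁ (fun u => (hrel u).1) (fun u => (hrel u).2.1)
        hne01).resolve_left ha
      have hc : c = 0 := (key a c χ₀ χ₂ (fun u => (hrel u).1) (fun u => (hrel u).2.2)
        hne02).resolve_left ha
      rw [hb, hc, zero_smul, zero_smul, add_zero, add_zero] at habc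
      have h1 : Λ v = a * Λ v := by
        rw [← smul_eq_mul, ← map_smul, ← habc, hΛτ, hΛτ, hΛτ]
      have h2 : a = 1 := by
        have : (a - 1) * Λ v = 0 := by rw [sub_mul, one_mul, ← h1, sub_self]
        exact sub_eq_zero.1 ((mul_eq_zero.1 this).resolve_right hΛ0)
      rw [habc, h2, one_smul]
  refine ⟨?_, ?_⟩
  · intro w
    obtain ⟨a, b, c, rfl⟩ := hspan w
    simp only [map_add, map_smul, hτ3v]
  · -- commutativity
    have hcomm : ∀ u w, st u w = st w u := by
      intro u w
      have h1 : ∀ y, st (st u w) y = st (st w u) y := by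
        intro y
        obtain ⟨a, b, c, rfl⟩ := hspan y
        simp only [map_add, map_smul, hassoc, hχ₀, hχ₁, hχ₂]
        module
      have h2 := h1 e
      rwa [he2, he2] at h2
    intro w
    rw [← sub_eq_zero]
    apply hnd
    intro u
    rw [map_sub, map_sub, hcomm u (σ w), ← hnak, hcomm u w, sub_eq_zero]

end Cfsg.Agent.H632.TripleAlg
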