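import Mathlib
import Cfsg.Agent.H632.Three
import Cfsg.Agent.H632.TripleAlg
import Cfsg.Agent.H632.Net2

/-!
# Local symmetric algebras: the multiplication in degree two
-/

set_option autoImplicit false

namespace Cfsg.Agent.H632.Three

open Module Cfsg.Agent.H632.SymLocal

variable {K A : Type*} [Field K] [Ring A] [Algebra K A]
variable {lam : A →ₗ[K] K} {π : A →ₐ[K] K} {m : ℕ}

/-- A complement of `J²` in `J`. -/
structure Cpl (π : A →ₐ[K] K) (C : Submodule K A) : Prop where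
  le : C ≤ J π
  ex : ∀ w ∈ J π, ∃ c ∈ C, w - c ∈ J π ^ 2
  dis : ∀ c ∈ C, c ∈ J π ^ 2 → c = 0
  dim : finrank K C = 3

variable (lam π m) in
/-- The degree two part. -/
abbrev Gr : Type _ := ↥((J π ^ 2).map (perp lam (J π ^ (m - 2))).mkQ)

variable (lam π m) in
/-- The class of an element of `J²`. -/
noncomputable def cls (a : A) (ha : a ∈ J π ^ 2) : Gr lam π m :=
  ⟨(perp lam (J π ^ (m - 2))).mkQ a, Submodule.mem_map_of_mem ha⟩

theorem cls_eq_iff {a b : A} (ha : a ∈ J π ^ 2) (hb : b ∈ J π ^ 2) :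
    cls lam π m a ha = cls lam π m b hb ↔ a - b ∈ perp lam (J π ^ (m - 2)) := by
  rw [cls, cls, Subtype.mk_eq_mk, Submodule.mkQ_apply, Submodule.mkQ_apply,
    Submodule.Quotient.eq]

theorem cls_eq_zero_iff {a : A} (ha : a ∈ J π ^ 2) :
    cls lam π m a ha = 0 ↔ a ∈ perp lam (J π ^ (m - 2)) := by
  have h : (0 : Gr lam π m) = cls lam π m 0 (zero_mem _) := by
    rw [cls, ← Subtype.coe_inj]
    simp
  rw [h, cls_eq_iff, sub_zero]

theorem exists_cls (g : Gr lam π m) : ∃ a : A, ∃ ha : a ∈ J π ^ 2, cls lam π m a ha = g := by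
  obtain ⟨g, a, ha, rfl⟩ := g
  exact ⟨a, ha, rfl⟩

theorem sq_mem {a b : A} (ha : a ∈ J π) (hb : b ∈ J π) : a * b ∈ J π ^ 2 := by
  rw [pow_two]
  exact Submodule.mul_mem_mul ha hb

variable (lam m) in
/-- The multiplication in degree one. -/
noncomputable def mu {C : Submodule K A} (hC : Cpl π C) : C →ₗ[K] C →ₗ[K] Gr lam π m :=
  LinearMap.mk₂ K (fun u v => cls lam π m (u * v) (sq_mem (hC.le u.2) (hC.le v.2)))
    (by intro u u' v; apply Subtype.ext; simp [cls, add_mul])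
    (by intro c u v; apply Subtype.ext; simp [cls])
    (by intro u v v'; apply Subtype.ext; simp [cls, mul_add])
    (by intro c u v; apply Subtype.ext; simp [cls])

variable {C : Submodule K A}

theorem mu_apply (hC : Cpl π C) (u v : C) :
    mu lam m hC u v = cls lam π m (u * v) (sq_mem (hC.le u.2) (hC.le v.2)) := rfl

theorem mu_eq_zero_iff (hC : Cpl π C) (u v : C) :
    mu lam m hC u v = 0 ↔ (u : A) * v ∈ perp lam (J π ^ (m - 2)) := by
  rw [mu_apply, cls_eq_zero_iff]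

theorem mu_eq_iff (hC : Cpl π C) (u v u' v' : C) :
    mu lam m hC u v = mu lam m hC u' v' ↔ (u : A) * v - u' * v' ∈ perp lam (J π ^ (m - 2)) := by
  rw [mu_apply, mu_apply, cls_eq_iff]

/-- Products of elements of `J` in degree two. -/
theorem Ctx.mul_congr (h : Ctx lam π m) {u v u' v' : A} (hu : u ∈ J π) (hv' : v' ∈ J π)
    (h1 : u - u' ∈ J π ^ 2) (h2 : v - v' ∈ J π ^ 2) :
    u * v - u' * v' ∈ perp lam (J π ^ (m - 2)) := by
  have hm := h.hm
  have e : u * v - u' * v' = u * (v - v') + (u - u') * v' := by noncomm_ring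
  rw [e]
  exact add_mem (h.pow_le_perp (i := 1 + 2) (by omega) (mul_mem (mem_J_pow_one.2 hu) h2))
    (h.pow_le_perp (i := 2 + 1) (by omega) (mul_mem h1 (mem_J_pow_one.2 hv')))

theorem Ctx.inj_right (h : Ctx lam π m) (hC : Cpl π C)
    (hnd : ∀ v ∈ J π, v ∈ perp lam (J π ^ (m - 1)) → v ∈ J π ^ 2) (v : C)
    (hv : ∀ x : C, mu lam m hC x v = 0) : v = 0 := by
  have hm := h.hm
  apply Subtype.ext
  apply hC.dis _ v.2
  apply hnd _ (hC.le v.2)
  intro b hb
  have hm1 : m - 1 = m - 2 + 1 := by omega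
  rw [hm1, pow_succ] at hb
  induction hb using Submodule.mul_induction_on' with
  | mem_mul_mem c hc x hx =>
    obtain ⟨x', hx', hxx⟩ := hC.ex x hx
    have h1 := (mu_eq_zero_iff hC ⟨x', hx'⟩ v).1 (hv _)
    have h2 : x * v - x' * v ∈ perp lam (J π ^ (m - 2)) :=
      h.mul_congr hx (hC.le v.2) hxx (by rw [sub_self]; exact zero_mem _)
    have h3 := add_mem h2 h1 c hc
    rw [sub_add_cancel] at h3
    rw [← mul_assoc, h.symm, ← mul_assoc]
    exact h3
  | add a _ b _ ha hb => rw [mul_add, map_add, ha, hb, add_zero]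

theorem Ctx.inj_left (h : Ctx lam π m) (hC : Cpl π C)
    (hnd : ∀ v ∈ J π, v ∈ perp lam (J π ^ (m - 1)) → v ∈ J π ^ 2) (v : C)
    (hv : ∀ x : C, mu lam m hC v x = 0) : v = 0 := by
  have hm := h.hm
  apply Subtype.ext
  apply hC.dis _ v.2
  apply hnd _ (hC.le v.2)
  intro b hb
  have hm1 : m - 1 = m - 2 + 1 := by omega
  rw [hm1, pow_succ'] at hb
  induction hb using Submodule.mul_induction_on' with
  | mem_mul_mem x hx c hc =>
    obtain ⟨x', hx', hxx⟩ := hC.ex x hx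
    have h1 := (mu_eq_zero_iff hC v ⟨x', hx'⟩).1 (hv _)
    have h2 : v * x - v * x' ∈ perp lam (J π ^ (m - 2)) :=
      h.mul_congr (hC.le v.2) (hC.le hx') (by rw [sub_self]; exact zero_mem _) hxx
    have h3 := add_mem h2 h1 c hc
    rw [sub_add_cancel] at h3
    rw [← mul_assoc]
    exact h3
  | add a _ b _ ha hb => rw [mul_add, map_add, ha, hb, add_zero]

/-- Left multiplication by `x` is onto in all degrees if it is so in degree two. -/
theorem Ctx.surj_left {x : A} (hx : ∀ a ∈ J π ^ 2, ∃ b ∈ J π, a - x * b ∈ perp lam (J π ^ (m - 2)))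
    {k : ℕ} (hk : k + 2 ≤ m) :
    ∀ a ∈ J π ^ (k + 2), ∃ b ∈ J π ^ (k + 1), a - x * b ∈ perp lam (J π ^ (m - 2 - k)) := by
  intro a ha
  rw [add_comm, pow_add] at ha
  induction ha using Submodule.mul_induction_on' with
  | mem_mul_mem a ha c hc =>
    obtain ⟨b, hb, hab⟩ := hx a ha
    refine ⟨b * c, ?_, ?_⟩
    · rw [add_comm]
      exact mul_mem (mem_J_pow_one.2 hb) hc
    · have e : a * c - x * (b * c) = (a - x * b) * c := by noncomm_ring
      rw [e]
      refine perp_mul_right (i := k) ?_ hc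
      rwa [show k + (m - 2 - k) = m - 2 by omega]
  | add a _ b _ ha hb =>
    obtain ⟨c, hc, h1⟩ := ha
    obtain ⟨d, hd, h2⟩ := hb
    refine ⟨c + d, add_mem hc hd, ?_⟩
    have := add_mem h1 h2
    rwa [show a - x * c + (b - x * d) = a + b - x * (c + d) by noncomm_ring] at this

/-- Right multiplication by `x` is onto in all degrees if it is so in degree two. -/
theorem Ctx.surj_right (h : Ctx lam π m) {x : A}
    (hx : ∀ a ∈ J π ^ 2, ∃ b ∈ J π, a - b * x ∈ perp lam (J π ^ (m - 2)))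
    {k : ℕ} (hk : k + 2 ≤ m) :
    ∀ a ∈ J π ^ (k + 2), ∃ b ∈ J π ^ (k + 1), a - b * x ∈ perp lam (J π ^ (m - 2 - k)) := by
  intro a ha
  rw [pow_add] at ha
  induction ha using Submodule.mul_induction_on' with
  | mem_mul_mem c hc a ha =>
    obtain ⟨b, hb, hab⟩ := hx a ha
    refine ⟨c * b, ?_, ?_⟩
    · exact mul_mem hc (mem_J_pow_one.2 hb)
    · have e : c * a - (c * b) * x = c * (a - b * x) := by noncomm_ring
      rw [e]
      refine h.perp_mul_left (i := k) ?_ hc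
      rwa [show k + (m - 2 - k) = m - 2 by omega]
  | add a _ b _ ha hb =>
    obtain ⟨c, hc, h1⟩ := ha
    obtain ⟨d, hd, h2⟩ := hb
    refine ⟨c + d, add_mem hc hd, ?_⟩
    have := add_mem h1 h2
    rwa [show a - c * x + (b - d * x) = a + b - (c + d) * x by noncomm_ring] at this

/-- If left multiplication is onto then right multiplication is injective. -/
theorem Ctx.inj_of_surj_left (h : Ctx lam π m)
    (hnd : ∀ v ∈ J π, v ∈ perp lam (J π ^ (m - 1)) → v ∈ J π ^ 2) {x : A}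
    (hx : ∀ a ∈ J π ^ 2, ∃ b ∈ J π, a - x * b ∈ perp lam (J π ^ (m - 2))) {v : A} (hv : v ∈ J π)
    (hvx : v * x ∈ perp lam (J π ^ (m - 2))) : v ∈ J π ^ 2 := by
  have hm := h.hm
  apply hnd _ hv
  intro b hb
  obtain ⟨c, hc, hbc⟩ := Ctx.surj_left hx (k := m - 3) (by omega) b
    (by rwa [show m - 3 + 2 = m - 1 by omega])
  rw [show m - 2 - (m - 3) = 1 by omega] at hbc
  rw [show m - 3 + 1 = m - 2 by omega] at hc
  have h1 := h.perp_symm hbc (mem_J_pow_one.2 hv)
  have h2 := hvx c hc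
  rw [mul_sub, map_sub, ← mul_assoc, h2, sub_zero] at h1
  exact h1

/-- If right multiplication is onto then left multiplication is injective. -/
theorem Ctx.inj_of_surj_right (h : Ctx lam π m)
    (hnd : ∀ v ∈ J π, v ∈ perp lam (J π ^ (m - 1)) → v ∈ J π ^ 2) {x : A}
    (hx : ∀ a ∈ J π ^ 2, ∃ b ∈ J π, a - b * x ∈ perp lam (J π ^ (m - 2))) {v : A} (hv : v ∈ J π)
    (hvx : x * v ∈ perp lam (J π ^ (m - 2))) : v ∈ J π ^ 2 := by
  have hm := h.hm
  apply hnd _ hv
  intro b hb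
  obtain ⟨c, hc, hbc⟩ := h.surj_right hx (k := m - 3) (by omega) b
    (by rwa [show m - 3 + 2 = m - 1 by omega])
  rw [show m - 2 - (m - 3) = 1 by omega] at hbc
  rw [show m - 3 + 1 = m - 2 by omega] at hc
  have h1 := h.perp_symm hbc (mem_J_pow_one.2 hv)
  have h2 := hvx c hc
  have h3 : lam (v * (c * x)) = lam (x * v * c) := by
    rw [← mul_assoc, h.symm, ← mul_assoc]
  rw [mul_sub, map_sub, h3, h2, sub_zero] at h1
  exact h1

/-- Surjectivity in terms of `mu`. -/
theorem surj_iff_left (hC : Cpl π C) (x : C)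
    (hs : Function.Surjective (mu lam m hC x)) :
    ∀ a ∈ J π ^ 2, ∃ b ∈ J π, a - x * b ∈ perp lam (J π ^ (m - 2)) := by
  intro a ha
  obtain ⟨b, hb⟩ := hs (cls lam π m a ha)
  refine ⟨b, hC.le b.2, ?_⟩
  rw [eq_comm, mu_apply, cls_eq_iff] at hb
  exact hb

theorem surj_iff_right (hC : Cpl π C) (x : C)
    (hs : Function.Surjective ((mu lam m hC).flip x)) :
    ∀ a ∈ J π ^ 2, ∃ b ∈ J π, a - b * x ∈ perp lam (J π ^ (m - 2)) := by
  intro a ha
  obtain ⟨b, hb⟩ := hs (cls lam π m a ha)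
  refine ⟨b, hC.le b.2, ?_⟩
  rw [eq_comm, LinearMap.flip_apply, mu_apply, cls_eq_iff] at hb
  exact hb

theorem Ctx.mu_right_inj (h : Ctx lam π m) (hC : Cpl π C)
    (hnd : ∀ v ∈ J π, v ∈ perp lam (J π ^ (m - 1)) → v ∈ J π ^ 2) (x : C)
    (hs : Function.Surjective (mu lam m hC x)) :
    Function.Injective ((mu lam m hC).flip x) := by
  rw [injective_iff_map_eq_zero]
  intro v hv
  rw [LinearMap.flip_apply, mu_eq_zero_iff] at hv
  exact Subtype.ext (hC.dis _ v.2
    (h.inj_of_surj_left hnd (surj_iff_left hC x hs) (hC.le v.2) hv))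

theorem Ctx.mu_left_inj (h : Ctx lam π m) (hC : Cpl π C)
    (hnd : ∀ v ∈ J π, v ∈ perp lam (J π ^ (m - 1)) → v ∈ J π ^ 2) (x : C)
    (hs : Function.Surjective ((mu lam m hC).flip x)) :
    Function.Injective (mu lam m hC x) := by
  rw [injective_iff_map_eq_zero]
  intro v hv
  rw [mu_eq_zero_iff] at hv
  exact Subtype.ext (hC.dis _ v.2
    (h.inj_of_surj_right hnd (surj_iff_right hC x hs) (hC.le v.2) hv))

/-- The brackets of a basis span the degree two part. -/
theorem Ctx.span_brackets (h : Ctx lam π m) (hC : Cpl π C) (b : Basis (Fin 3) K C) :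
    Submodule.span K (Set.range ![mu lam m hC (b 0) (b 1) - mu lam m hC (b 1) (b 0),
      mu lam m hC (b 0) (b 2) - mu lam m hC (b 2) (b 0),
      mu lam m hC (b 1) (b 2) - mu lam m hC (b 2) (b 1)]) = ⊤ := by
  have hm := h.hm
  set S := Submodule.span K (Set.range ![mu lam m hC (b 0) (b 1) - mu lam m hC (b 1) (b 0),
      mu lam m hC (b 0) (b 2) - mu lam m hC (b 2) (b 0),
      mu lam m hC (b 1) (b 2) - mu lam m hC (b 2) (b 1)]) with hS
  have h0 : mu lam m hC (b 0) (b 1) - mu lam m hC (b 1) (b 0) ∈ S :=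
    Submodule.subset_span ⟨0, rfl⟩
  have h1 : mu lam m hC (b 0) (b 2) - mu lam m hC (b 2) (b 0) ∈ S :=
    Submodule.subset_span ⟨1, rfl⟩
  have h2 : mu lam m hC (b 1) (b 2) - mu lam m hC (b 2) (b 1) ∈ S :=
    Submodule.subset_span ⟨2, rfl⟩
  have hbr : ∀ u v : C, mu lam m hC u v - mu lam m hC v u ∈ S := by
    intro u v
    rw [← b.sum_repr u, ← b.sum_repr v]
    simp only [Fin.sum_univ_three, map_add, map_smul, LinearMap.add_apply, LinearMap.smul_apply]
    have e : ∀ (a₀ a₁ a₂ c₀ c₁ c₂ : K) (g00 g01 g02 g10 g11 g12 g20 g21 g22 : Gr lam π m),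
        c₀ • (a₀ • g00 + a₁ • g10 + a₂ • g20) + c₁ • (a₀ • g01 + a₁ • g11 + a₂ • g21) +
        c₂ • (a₀ • g02 + a₁ • g12 + a₂ • g22) -
        (a₀ • (c₀ • g00 + c₁ • g10 + c₂ • g20) + a₁ • (c₀ • g01 + c₁ • g11 + c₂ • g21) +
        a₂ • (c₀ • g02 + c₁ • g12 + c₂ • g22)) =
        (a₀ * c₁ - a₁ * c₀) • (g01 - g10) + (a₀ * c₂ - a₂ * c₀) • (g02 - g20) +
          (a₁ * c₂ - a₂ * c₁) • (g12 - g21) := by
      intros
      module
    rw [e]
    exact add_mem (add_mem (Submodule.smul_mem _ _ h0) (Submodule.smul_mem _ _ h1))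
      (Submodule.smul_mem _ _ h2)
  rw [eq_top_iff]
  intro g _
  obtain ⟨a, ha, rfl⟩ := exists_cls g
  obtain ⟨c', hc', s, hs, hacs⟩ := h.hcomm a ha
  -- the preimage of `S`
  have hle : comm (J π) (J π) ≤ (S.map (Submodule.subtype _)).comap
      (perp lam (J π ^ (m - 2))).mkQ := by
    apply comm_le_perp
    intro u hu v hv
    obtain ⟨u', hu', hu2⟩ := hC.ex u hu
    obtain ⟨v', hv', hv2⟩ := hC.ex v hv
    refine ⟨_, hbr ⟨u', hu'⟩ ⟨v', hv'⟩, ?_⟩
    simp only [Submodule.subtype_apply, AddSubgroupClass.coe_sub, mu_apply, cls]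
    rw [← map_sub, Submodule.mkQ_apply, Submodule.mkQ_apply, eq_comm, Submodule.Quotient.eq]
    have e : u * v - v * u - (u' * v' - v' * u') = (u * v - u' * v') - (v * u - v' * u') := by
      noncomm_ring
    rw [e]
    exact sub_mem (h.mul_congr hu (hC.le hv') hu2 hv2) (h.mul_congr hv (hC.le hu') hv2 hu2)
  obtain ⟨g', hg', hgc⟩ := hle hc'
  have : cls lam π m a ha = g' := by
    apply Subtype.ext
    show (perp lam (J π ^ (m - 2))).mkQ a = g'
    rw [hacs, map_add]
    have h5 : (perp lam (J π ^ (m - 2))).mkQ s = 0 := by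
      rw [Submodule.mkQ_apply, Submodule.Quotient.mk_eq_zero]
      exact h.pow_le_perp (by omega) hs
    rw [h5, add_zero]
    exact hgc.symm
  rw [this]
  exact hg'

end Cfsg.Agent.H632.Three
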