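import Mathlib
import Cfsg.Agent.H632.Three2
import Cfsg.Agent.H632.Net

/-!
# Local symmetric algebras: the degree two part is three-dimensional
-/

set_option autoImplicit false

namespace Cfsg.Agent.H632.Three

open Module Cfsg.Agent.H632.SymLocal

variable {K A : Type*} [Field K] [Ring A] [Algebra K A]
variable {lam : A →ₗ[K] K} {π : A →ₐ[K] K} {m : ℕ} {C : Submodule K A}

/-- The values of `mu` generate. -/
theorem Ctx.forms_mu (h : Ctx lam π m) (hC : Cpl π C) (f : Gr lam π m →ₗ[K] K)
    (hf : ∀ x v, f (mu lam m hC x v) = 0) : f = 0 := by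
  apply LinearMap.ext
  intro g
  obtain ⟨a, ha, rfl⟩ := exists_cls g
  rw [LinearMap.zero_apply]
  have key : ∀ (a : A) (_ : a ∈ J π ^ 2), ∀ ha : a ∈ J π ^ 2, f (cls lam π m a ha) = 0 := by
    intro a ha'
    rw [pow_two] at ha'
    induction ha' using Submodule.mul_induction_on' with
    | mem_mul_mem u hu v hv =>
      intro ha
      obtain ⟨u', hu', hu2⟩ := hC.ex u hu
      obtain ⟨v', hv', hv2⟩ := hC.ex v hv
      rw [← hf ⟨u', hu'⟩ ⟨v', hv'⟩]
      congr 1
      rw [mu_apply, cls_eq_iff]
      exact h.mul_congr hu (hC.le hv') hu2 hv2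
    | add a ha b hb h1 h2 =>
      intro hab
      rw [← pow_two] at ha hb
      have e : cls lam π m (a + b) hab = cls lam π m a ha + cls lam π m b hb := by
        apply Subtype.ext
        simp [cls]
      rw [e, map_add, h1, h2, add_zero]
  exact key a ha ha

theorem Ctx.finrank_gr [FiniteDimensional K A] (h : Ctx lam π m) (hC : Cpl π C)
    (hnd : ∀ v ∈ J π, v ∈ perp lam (J π ^ (m - 1)) → v ∈ J π ^ 2) :
    finrank K (Gr lam π m) = 3 := by
  have hm := h.hm
  apply le_antisymm
  · let b := Module.finBasisOfFinrankEq K C hC.dim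
    have h1 := h.span_brackets hC b
    have h2 := finrank_range_le_card (R := K)
      (b := ![mu lam m hC (b 0) (b 1) - mu lam m hC (b 1) (b 0),
      mu lam m hC (b 0) (b 2) - mu lam m hC (b 2) (b 0),
      mu lam m hC (b 1) (b 2) - mu lam m hC (b 2) (b 1)])
    rw [Set.finrank, h1, finrank_top, Fintype.card_fin] at h2
    exact h2
  · by_contra hcon
    push Not at hcon
    -- all `mu x` have rank at most one
    have hr : ∀ x v w : C, mu lam m hC x v ≠ 0 → ∃ c : K, mu lam m hC x w = c • mu lam m hC x v := by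
      intro x v w hv
      by_contra hw
      push Not at hw
      have hli : LinearIndependent K ![mu lam m hC x v, mu lam m hC x w] := by
        rw [LinearIndependent.pair_iff]
        intro s t hst
        have ht : t = 0 := by
          by_contra ht
          apply hw (-(t⁻¹ * s))
          have h1 : mu lam m hC x w = t⁻¹ • (t • mu lam m hC x w) := by
            rw [smul_smul, inv_mul_cancel₀ ht, one_smul]
          have h2 : t • mu lam m hC x w = -(s • mu lam m hC x v) := by
            rw [eq_neg_iff_add_eq_zero, add_comm]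
            exact hst
          rw [h1, h2]
          module
        refine ⟨?_, ht⟩
        rw [ht, zero_smul, add_zero] at hst
        exact (smul_eq_zero.1 hst).resolve_right hv
      have h1 : 2 ≤ finrank K (LinearMap.range (mu lam m hC x)) := by
        have h2 := finrank_span_eq_card hli
        have h3 : (2 : ℕ) = finrank K (Submodule.span K
            (Set.range ![mu lam m hC x v, mu lam m hC x w])) := by
          rw [h2, Fintype.card_fin]
        refine h3.le.trans ?_
        apply Submodule.finrank_mono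
        rw [Submodule.span_le]
        rintro _ ⟨i, rfl⟩
        fin_cases i
        · exact ⟨v, rfl⟩
        · exact ⟨w, rfl⟩
      have hsurj : Function.Surjective (mu lam m hC x) := by
        rw [← LinearMap.range_eq_top]
        apply Submodule.eq_top_of_finrank_eq
        apply le_antisymm
        · exact Submodule.finrank_le _
        · omega
      have hinj := h.mu_right_inj hC hnd x hsurj
      have h3 := LinearMap.finrank_le_finrank_of_injective hinj
      rw [hC.dim] at h3
      omega
    have hfC : FiniteDimensional K C := inferInstance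
    rcases Net.rank_one (by rw [hC.dim]; omega) (mu lam m hC) hr with ⟨v, hv0, hv⟩ | ⟨g, hg⟩
    · exact hv0 (h.inj_right hC hnd v hv)
    · obtain ⟨a, ha, rfl⟩ := exists_cls g
      apply h.lemmaS a
      intro c hc
      rw [pow_two] at hc
      induction hc using Submodule.mul_induction_on' with
      | mem_mul_mem u hu v hv =>
        obtain ⟨u', hu', hu2⟩ := hC.ex u hu
        obtain ⟨v', hv', hv2⟩ := hC.ex v hv
        obtain ⟨d, hd⟩ := hg ⟨u', hu'⟩ ⟨v', hv'⟩
        refine ⟨d, ?_⟩
        have e : d • cls lam π m a ha = cls lam π m (d • a) (Submodule.smul_mem _ _ ha) := by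
          apply Subtype.ext
          simp [cls]
        rw [e, mu_apply, cls_eq_iff] at hd
        have := add_mem (h.mul_congr hu (hC.le hv') hu2 hv2) hd
        rwa [sub_add_sub_cancel] at this
      | add a' _ b' _ h1 h2 =>
        obtain ⟨d₁, h1⟩ := h1
        obtain ⟨d₂, h2⟩ := h2
        refine ⟨d₁ + d₂, ?_⟩
        have := add_mem h1 h2
        rwa [show a' - d₁ • a + (b' - d₂ • a) = a' + b' - (d₁ + d₂) • a by module] at this

theorem Ctx.indep_brackets [FiniteDimensional K A] (h : Ctx lam π m) (hC : Cpl π C)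
    (hnd : ∀ v ∈ J π, v ∈ perp lam (J π ^ (m - 1)) → v ∈ J π ^ 2) (b : Basis (Fin 3) K C) :
    LinearIndependent K ![mu lam m hC (b 0) (b 1) - mu lam m hC (b 1) (b 0),
      mu lam m hC (b 0) (b 2) - mu lam m hC (b 2) (b 0),
      mu lam m hC (b 1) (b 2) - mu lam m hC (b 2) (b 1)] := by
  apply linearIndependent_of_top_le_span_of_card_eq_finrank (h.span_brackets hC b).ge
  rw [h.finrank_gr hC hnd, Fintype.card_fin]

/-- Commuting elements (in degree two) are dependent. -/
theorem Ctx.comm_dep [FiniteDimensional K A] (h : Ctx lam π m) (hC : Cpl π C)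
    (hnd : ∀ v ∈ J π, v ∈ perp lam (J π ^ (m - 1)) → v ∈ J π ^ 2) (u v : C)
    (huv : mu lam m hC u v = mu lam m hC v u) : ¬ LinearIndependent K ![u, v] := by
  intro hli
  have hC3 := hC.dim
  obtain ⟨w, hw⟩ : ∃ w : C, w ∉ Submodule.span K (Set.range ![u, v]) := by
    by_contra hcon
    push Not at hcon
    have h1 : (⊤ : Submodule K C) ≤ Submodule.span K (Set.range ![u, v]) := fun u _ => hcon u
    have h2 := Submodule.finrank_mono h1
    rw [finrank_span_eq_card hli, finrank_top, Fintype.card_fin] at h2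
    omega
  have hli3 : LinearIndependent K ![u, v, w] := by
    have h1 : LinearIndependent K (Fin.snoc (α := fun _ => C) ![u, v] w) :=
      linearIndependent_finSnoc.2 ⟨hli, hw⟩
    have h2 : (Fin.snoc (α := fun _ => C) ![u, v] w) = ![u, v, w] := by
      funext i
      fin_cases i <;> rfl
    rwa [h2] at h1
  obtain ⟨b, rfl, rfl, rfl⟩ := Net.exists_basis_of_indep hC.dim hli3
  have h3 := h.indep_brackets hC hnd b
  exact h3.ne_zero 0 (sub_eq_zero.2 huv)

/-- `J³` is spanned by `[J, J²]` and `J^m`. -/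
theorem Ctx.hcomm3 [FiniteDimensional K A] (h : Ctx lam π m) (hC : Cpl π C)
    (hnd : ∀ v ∈ J π, v ∈ perp lam (J π ^ (m - 1)) → v ∈ J π ^ 2) {c : A} (hc : c ∈ J π ^ 3) :
    ∃ c' ∈ comm (J π) (J π ^ 2), ∃ s ∈ J π ^ m, c = c' + s := by
  have hm := h.hm
  have h32 : J π ^ 3 ≤ J π ^ 2 := pow_anti (by omega) (by omega)
  have h2J : J π ^ 2 ≤ J π := pow_le_J 1
  obtain ⟨c', hc', s, hs, hcs⟩ := h.hcomm c (h32 hc)
  let b := Module.finBasisOfFinrankEq K C hC.dim
  -- the decomposition of a commutator
  have key : comm (J π) (J π) ≤ Submodule.span K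
      (Set.range ![((b 0 : C) : A) * b 1 - b 1 * b 0, ((b 0 : C) : A) * b 2 - b 2 * b 0,
        ((b 1 : C) : A) * b 2 - b 2 * b 1]) ⊔ comm (J π) (J π ^ 2) := by
    apply comm_le_perp
    intro u hu v hv
    obtain ⟨u', hu', hu2⟩ := hC.ex u hu
    obtain ⟨v', hv', hv2⟩ := hC.ex v hv
    have e : u * v - v * u = (u' * v' - v' * u') + ((u * (v - v') - (v - v') * u) +
        (-(v' * (u - u') - (u - u') * v'))) := by noncomm_ring
    rw [e]
    refine add_mem (Submodule.mem_sup_left ?_) (Submodule.mem_sup_right ?_)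
    · set S := Submodule.span K
        (Set.range ![((b 0 : C) : A) * b 1 - b 1 * b 0, ((b 0 : C) : A) * b 2 - b 2 * b 0,
        ((b 1 : C) : A) * b 2 - b 2 * b 1])
      have h0 : ((b 0 : C) : A) * b 1 - b 1 * b 0 ∈ S := Submodule.subset_span ⟨0, rfl⟩
      have h1 : ((b 0 : C) : A) * b 2 - b 2 * b 0 ∈ S := Submodule.subset_span ⟨1, rfl⟩
      have h2 : ((b 1 : C) : A) * b 2 - b 2 * b 1 ∈ S := Submodule.subset_span ⟨2, rfl⟩
      have hu3 : u' = b.repr ⟨u', hu'⟩ 0 • (b 0 : A) + b.repr ⟨u', hu'⟩ 1 • (b 1 : A) +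
          b.repr ⟨u', hu'⟩ 2 • (b 2 : A) := by
        have := congrArg Subtype.val (b.sum_repr ⟨u', hu'⟩)
        rw [Fin.sum_univ_three] at this
        exact this.symm
      have hv3 : v' = b.repr ⟨v', hv'⟩ 0 • (b 0 : A) + b.repr ⟨v', hv'⟩ 1 • (b 1 : A) +
          b.repr ⟨v', hv'⟩ 2 • (b 2 : A) := by
        have := congrArg Subtype.val (b.sum_repr ⟨v', hv'⟩)
        rw [Fin.sum_univ_three] at this
        exact this.symm
      rw [hu3, hv3]
      generalize b.repr ⟨u', hu'⟩ 0 = a₀
      generalize b.repr ⟨u', hu'⟩ 1 = a₁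
      generalize b.repr ⟨u', hu'⟩ 2 = a₂
      generalize b.repr ⟨v', hv'⟩ 0 = c₀
      generalize b.repr ⟨v', hv'⟩ 1 = c₁
      generalize b.repr ⟨v', hv'⟩ 2 = c₂
      have e : (a₀ • (b 0 : A) + a₁ • (b 1 : A) + a₂ • (b 2 : A)) *
          (c₀ • (b 0 : A) + c₁ • (b 1 : A) + c₂ • (b 2 : A)) -
          (c₀ • (b 0 : A) + c₁ • (b 1 : A) + c₂ • (b 2 : A)) *
          (a₀ • (b 0 : A) + a₁ • (b 1 : A) + a₂ • (b 2 : A)) =
          (a₀ * c₁ - a₁ * c₀) • (((b 0 : C) : A) * b 1 - b 1 * b 0) +
          (a₀ * c₂ - a₂ * c₀) • (((b 0 : C) : A) * b 2 - b 2 * b 0) +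
          (a₁ * c₂ - a₂ * c₁) • (((b 1 : C) : A) * b 2 - b 2 * b 1) := by
        simp only [add_mul, mul_add, smul_mul_assoc, mul_smul_comm]
        module
      rw [e]
      exact add_mem (add_mem (Submodule.smul_mem _ _ h0) (Submodule.smul_mem _ _ h1))
        (Submodule.smul_mem _ _ h2)
    · refine add_mem (Submodule.subset_span ⟨u, hu, v - v', hv2, rfl⟩) (neg_mem ?_)
      exact Submodule.subset_span ⟨v', hC.le hv', u - u', hu2, rfl⟩
  obtain ⟨t, ht, r, hr, htr⟩ := Submodule.mem_sup.1 (key hc')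
  refine ⟨r, hr, s, hs, ?_⟩
  rw [hcs, ← htr]
  -- the coefficients vanish
  rw [Submodule.mem_span_range_iff_exists_fun] at ht
  obtain ⟨a, ha⟩ := ht
  have hr3 : r ∈ perp lam (J π ^ (m - 2)) := by
    refine comm_le_perp (fun u hu v hv => ?_) hr
    exact sub_mem (h.pow_le_perp (i := 1 + 2) (by omega) (mul_mem (mem_J_pow_one.2 hu) hv))
      (h.pow_le_perp (i := 2 + 1) (by omega) (mul_mem hv (mem_J_pow_one.2 hu)))
  have ht3 : t ∈ perp lam (J π ^ (m - 2)) := by
    have h1 : t = c - r - s := by rw [hcs, ← htr]; abel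
    rw [h1]
    exact sub_mem (sub_mem (h.pow_le_perp (by omega) hc) hr3) (h.pow_le_perp (by omega) hs)
  have h5 := Fintype.linearIndependent_iff.1 (h.indep_brackets hC hnd b) a (by
    rw [Fin.sum_univ_three] at ha ⊢
    simp only [Matrix.cons_val_zero, Matrix.cons_val_one, Matrix.cons_val] at ha ⊢
    apply Subtype.ext
    have h6 : (perp lam (J π ^ (m - 2))).mkQ t = 0 := by
      rw [Submodule.mkQ_apply, Submodule.Quotient.mk_eq_zero]
      exact ht3
    rw [← ha] at h6
    simp only [map_add, map_smul, map_sub] at h6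
    simpa [mu_apply, cls] using h6)
  have h6 : t = 0 := by
    rw [← ha]
    exact Finset.sum_eq_zero fun i _ => by rw [h5 i, zero_smul]
  rw [h6, zero_add]

end Cfsg.Agent.H632.Three
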