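import Mathlib
import Cfsg.Agent.H632.Three3

/-!
# Local symmetric algebras: some left multiplication is bijective
-/

set_option autoImplicit false

namespace Cfsg.Agent.H632.Three

open Module Cfsg.Agent.H632.SymLocal

variable {K A : Type*} [Field K] [Ring A] [Algebra K A]
variable {lam : A →ₗ[K] K} {π : A →ₐ[K] K} {m : ℕ} {C : Submodule K A}

/-- Iterated left multiplication. -/
theorem Ctx.pow_surj (h : Ctx lam π m) {x : A} (hxJ : x ∈ J π)
    (hx : ∀ a ∈ J π ^ 2, ∃ b ∈ J π, a - x * b ∈ perp lam (J π ^ (m - 2))) {k : ℕ}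
    (hk : k + 1 ≤ m) :
    ∀ a ∈ J π ^ (k + 1), ∃ b ∈ J π, a - x ^ k * b ∈ perp lam (J π ^ (m - 1 - k)) := by
  induction k with
  | zero =>
    intro a ha
    exact ⟨a, by simpa using ha, by simp⟩
  | succ k ih =>
    intro a ha
    obtain ⟨b, hb, hab⟩ := Ctx.surj_left hx (k := k) hk a ha
    obtain ⟨c, hc, hbc⟩ := ih (by omega) b hb
    refine ⟨c, hc, ?_⟩
    have e : a - x ^ (k + 1) * c = (a - x * b) + x * (b - x ^ k * c) := by
      rw [pow_succ']
      noncomm_ring
    rw [e, show m - 1 - (k + 1) = m - 2 - k by omega]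
    refine add_mem hab (h.perp_mul_left (i := 1) ?_ (mem_J_pow_one.2 hxJ))
    rwa [show 1 + (m - 2 - k) = m - 1 - k by omega]

/-- Left multiplication by `x` is injective from degree two to degree three. -/
theorem Ctx.inj_two (h : Ctx lam π m) {x : A}
    (hx : ∀ a ∈ J π ^ 2, ∃ b ∈ J π, a - b * x ∈ perp lam (J π ^ (m - 2))) {a : A}
    (ha : a ∈ J π ^ 2) (hxa : x * a ∈ perp lam (J π ^ (m - 3))) :
    a ∈ perp lam (J π ^ (m - 2)) := by
  have hm := h.hm
  intro b hb
  obtain ⟨c, hc, hbc⟩ := h.surj_right hx (k := m - 4) (by omega) b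
    (by rwa [show m - 4 + 2 = m - 2 by omega])
  rw [show m - 2 - (m - 4) = 2 by omega] at hbc
  rw [show m - 4 + 1 = m - 3 by omega] at hc
  have h1 := h.perp_symm hbc ha
  have h2 := hxa c hc
  have h3 : lam (a * (c * x)) = lam (x * a * c) := by
    rw [← mul_assoc, h.symm, ← mul_assoc]
  rw [mul_sub, map_sub, h3, h2, sub_zero] at h1
  exact h1

theorem Ctx.two_mul_left (h : Ctx lam π m) {a b : A} (ha : a ∈ perp lam (J π ^ (m - 2)))
    (hb : b ∈ J π) : b * a ∈ perp lam (J π ^ (m - 3)) := by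
  have hm := h.hm
  refine h.perp_mul_left (i := 1) ?_ (mem_J_pow_one.2 hb)
  rwa [show 1 + (m - 3) = m - 2 by omega]

theorem Ctx.two_mul_right (h : Ctx lam π m) {a b : A} (ha : a ∈ perp lam (J π ^ (m - 2)))
    (hb : b ∈ J π) : a * b ∈ perp lam (J π ^ (m - 3)) := by
  have hm := h.hm
  refine perp_mul_right (i := 1) ?_ (mem_J_pow_one.2 hb)
  rwa [show 1 + (m - 3) = m - 2 by omega]

theorem Ctx.bijective_case [IsAlgClosed K] [FiniteDimensional K A] (h : Ctx lam π m)
    (hC : Cpl π C) (hnd : ∀ v ∈ J π, v ∈ perp lam (J π ^ (m - 1)) → v ∈ J π ^ 2) (x : C)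
    (hx : Function.Injective (mu lam m hC x)) : False := by
  have hm := h.hm
  have hC3 := hC.dim
  have hdim : finrank K C = finrank K (Gr lam π m) := by
    rw [hC.dim, h.finrank_gr hC hnd]
  have hLs : Function.Surjective (mu lam m hC x) :=
    (LinearMap.injective_iff_surjective_of_finrank_eq_finrank hdim).1 hx
  have hR := h.mu_right_inj hC hnd x hLs
  have hRs : Function.Surjective ((mu lam m hC).flip x) :=
    (LinearMap.injective_iff_surjective_of_finrank_eq_finrank hdim).1 hR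
  have hsl := surj_iff_left hC x hLs
  have hsr := surj_iff_right hC x hRs
  let L : C ≃ₗ[K] Gr lam π m := LinearEquiv.ofBijective (mu lam m hC x) ⟨hx, hLs⟩
  let R : C ≃ₗ[K] Gr lam π m := LinearEquiv.ofBijective ((mu lam m hC).flip x) ⟨hR, hRs⟩
  let τ : C ≃ₗ[K] C := R.trans L.symm
  have hτ : ∀ v, mu lam m hC x (τ v) = mu lam m hC v x := fun v => L.apply_symm_apply _
  have hτ' : ∀ v : C, (x : A) * τ v - v * x ∈ perp lam (J π ^ (m - 2)) := fun v =>
    (mu_eq_iff hC _ _ _ _).1 (hτ v)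
  let ci : C →ₗ[K] C →ₗ[K] C := (mu lam m hC).compr₂ L.symm.toLinearMap
  have hci : ∀ u v, mu lam m hC x (ci u v) = mu lam m hC u v := fun u v => L.apply_symm_apply _
  have hci' : ∀ u v : C, (x : A) * ci u v - u * v ∈ perp lam (J π ^ (m - 2)) := fun u v =>
    (mu_eq_iff hC _ _ _ _).1 (hci u v)
  have hcix : ∀ v, ci x v = v := fun v => hx (hci x v)
  have hcix' : ∀ v, ci v x = τ v := fun v => hx (by rw [hci, hτ])
  clear_value τ ci
  have hassoc : ∀ u v w, ci (ci u v) w = ci (τ u) (ci v w) := by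
    intro u v w
    apply hx
    rw [mu_eq_iff]
    refine h.inj_two hsr (sub_mem (sq_mem (hC.le x.2) (hC.le (ci (ci u v) w).2))
      (sq_mem (hC.le x.2) (hC.le (ci (τ u) (ci v w)).2))) ?_
    have e : (x : A) * (x * ci (ci u v) w - x * ci (τ u) (ci v w)) =
        (x * (x * ci (ci u v) w - (ci u v) * w) + (x * ci u v - u * v) * w) -
        (x * (x * ci (τ u) (ci v w) - (τ u) * ci v w) + (x * τ u - u * x) * ci v w +
          u * (x * ci v w - v * w)) := by noncomm_ring
    rw [e]
    exact sub_mem (add_mem (h.two_mul_left (hci' _ _) (hC.le x.2))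
      (h.two_mul_right (hci' _ _) (hC.le w.2)))
      (add_mem (add_mem (h.two_mul_left (hci' _ _) (hC.le x.2))
        (h.two_mul_right (hτ' _) (hC.le (ci v w).2))) (h.two_mul_left (hci' _ _) (hC.le u.2)))
  have hτci : ∀ u v, τ (ci u v) = ci (τ u) (τ v) := by
    intro u v
    rw [← hcix', hassoc, hcix']
  have hτx : τ x = x := by rw [← hcix', hcix]
  -- powers
  set T : Module.End K C := τ.toLinearMap with hT
  have hTa : ∀ v, T v = τ v := fun v => rfl
  have hpow : ∀ k, k + 1 ≤ m → ∀ v : C,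
      (v : A) * x ^ k - x ^ k * ((T ^ k) v : C) ∈ perp lam (J π ^ (m - 1 - k)) := by
    intro k
    induction k with
    | zero => intro _ v; simp
    | succ k ih =>
      intro hk v
      have e : (v : A) * x ^ (k + 1) - x ^ (k + 1) * ((T ^ (k + 1)) v : C) =
          (v * x ^ k - x ^ k * ((T ^ k) v : C)) * x -
            x ^ k * (x * τ ((T ^ k) v) - ((T ^ k) v : C) * x) := by
        rw [pow_succ' T, Module.End.mul_apply, hTa, pow_succ (x : A)]
        noncomm_ring
      rw [e]
      refine sub_mem (perp_mul_right (i := 1) ?_ (mem_J_pow_one.2 (hC.le x.2)))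
        (h.perp_mul_left (i := k) ?_ ?_)
      · have := ih (by omega) v
        rwa [show 1 + (m - 1 - (k + 1)) = m - 1 - k by omega]
      · have := hτ' ((T ^ k) v)
        rwa [show k + (m - 1 - (k + 1)) = m - 2 by omega]
      · exact Submodule.pow_mem_pow _ (hC.le x.2) _
  have hxm : ∀ k, (x : A) ^ k ∈ J π ^ k := fun k => Submodule.pow_mem_pow _ (hC.le x.2) _
  -- the form
  let Λ : C →ₗ[K] K := lam ∘ₗ (LinearMap.mulLeft K ((x : A) ^ (m - 1))) ∘ₗ C.subtype
  have hΛ : ∀ v : C, Λ v = lam (x ^ (m - 1) * v) := fun v => rfl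
  have hΛci : ∀ u v, Λ (ci u v) = lam (x ^ (m - 2) * (u * v)) := by
    intro u v
    rw [hΛ, ← sub_eq_zero, ← map_sub]
    have e : (x : A) ^ (m - 1) * ci u v - x ^ (m - 2) * (u * v) =
        x ^ (m - 2) * (x * ci u v - u * v) := by
      rw [show m - 1 = m - 2 + 1 by omega, pow_succ]
      noncomm_ring
    rw [e]
    exact h.perp_symm (hci' u v) (hxm _)
  have hΛτ : ∀ v, Λ (τ v) = Λ v := by
    intro v
    rw [← hcix', hΛci, hΛ, ← mul_assoc, h.symm, ← mul_assoc, ← pow_succ',
      show m - 2 + 1 = m - 1 by omega]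
  clear_value Λ
  -- the product
  let st : C →ₗ[K] C →ₗ[K] C := ci ∘ₗ τ.symm.toLinearMap
  have hst : ∀ u v, st u v = ci (τ.symm u) v := fun u v => rfl
  have hst' : ∀ u v, st (τ u) v = ci u v := fun u v => by rw [hst, LinearEquiv.symm_apply_apply]
  have hndΛ : ∀ v, (∀ u, Λ (st u v) = 0) → v = 0 := by
    intro v hv
    apply Subtype.ext
    apply hC.dis _ v.2
    apply hnd _ (hC.le v.2)
    intro b hb
    obtain ⟨c, hc, hbc⟩ := h.pow_surj (hC.le x.2) hsl (k := m - 2) (by omega) b
      (by rwa [show m - 2 + 1 = m - 1 by omega])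
    rw [show m - 1 - (m - 2) = 1 by omega] at hbc
    obtain ⟨u, hu, hcu⟩ := hC.ex c hc
    have h1 := h.perp_symm hbc (mem_J_pow_one.2 (hC.le v.2))
    have h2 : (v : A) * x ^ (m - 2) * (c - u) = 0 :=
      h.eq_zero (i := 1 + (m - 2) + 2) (by omega)
        (mul_mem (mul_mem (mem_J_pow_one.2 (hC.le v.2)) (hxm _)) hcu)
    have h3 : lam ((v : A) * (x ^ (m - 2) * u)) = 0 := by
      rw [h.symm, mul_assoc, ← hΛci ⟨u, hu⟩ v, ← hst']
      exact hv _
    have e : (v : A) * b = v * (b - x ^ (m - 2) * c) + (v * x ^ (m - 2) * (c - u)) +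
        v * (x ^ (m - 2) * u) := by noncomm_ring
    rw [e, h2, add_zero, map_add, h1, h3, add_zero]
  have hx0 : x ≠ 0 := by
    rintro rfl
    have hnt : Nontrivial C := Module.nontrivial_of_finrank_pos (R := K) (by omega)
    obtain ⟨v, hv⟩ := exists_ne (0 : C)
    exact hv (hx (by simp))
  obtain ⟨h3, h4⟩ := TripleAlg.main hC.dim st x
    (fun v => by rw [← hτx, hst', hcix])
    (fun v => by rw [hst, hcix', LinearEquiv.apply_symm_apply])
    (by
      intro u v w
      obtain ⟨u, rfl⟩ := τ.surjective u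
      obtain ⟨u, rfl⟩ := τ.surjective u
      obtain ⟨v, rfl⟩ := τ.surjective v
      rw [hst', ← hτci, hst', hst', hst', hassoc]) τ
    (by
      intro u v
      obtain ⟨u, rfl⟩ := τ.surjective u
      rw [hst', hst', hτci]) Λ hΛτ hndΛ
    (by
      intro v hv
      have h1 : mu lam m hC x v = mu lam m hC v x := by rw [← hτ, hv]
      have h2 := h.comm_dep hC hnd x v h1
      rw [LinearIndependent.pair_iff' hx0] at h2
      push Not at h2
      obtain ⟨c, hc⟩ := h2
      exact ⟨c, hc.symm⟩) (T ^ m)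
    (by
      intro u v
      have e1 : Λ (st u v) = Λ (ci u (τ v)) := by
        rw [← hΛτ]
        obtain ⟨u, rfl⟩ := τ.surjective u
        rw [hst', hτci]
      have e2 : (T ^ m) v = τ ((T ^ (m - 2)) (τ v)) := by
        rw [← hTa, ← hTa v, ← Module.End.mul_apply, ← Module.End.mul_apply, ← pow_succ',
          ← pow_succ, show m - 2 + 1 + 1 = m by omega]
      rw [e1, e2, hst', hΛci, hΛci]
      have h5 := hpow (m - 2) (by omega) (τ v) u
        (by rw [show m - 1 - (m - 2) = 1 by omega]; exact mem_J_pow_one.2 (hC.le u.2))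
      rw [sub_mul, map_sub, sub_eq_zero] at h5
      rw [← mul_assoc, h.symm, ← mul_assoc, h5, mul_assoc])
  -- conclusion
  have hT3 : T ^ (m - 3) = 1 := by
    apply LinearMap.ext
    intro v
    have h5 := h4 v
    rw [show m = m - 3 + 3 by omega, pow_add, Module.End.mul_apply] at h5
    have h6 : (T ^ 3) v = v := by
      have := h3 v
      rwa [← hTa, ← hTa, ← hTa, ← Module.End.mul_apply, ← Module.End.mul_apply, ← pow_two,
        ← pow_succ] at this
    rw [h6] at h5
    rw [h5]
    rfl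
  have hzero : ∀ c ∈ J π ^ 3, lam ((x : A) ^ (m - 3) * c) = 0 := by
    intro c hc
    obtain ⟨c', hc', s, hs, rfl⟩ := h.hcomm3 hC hnd hc
    have h5 : (x : A) ^ (m - 3) * s = 0 := h.eq_zero (i := m - 3 + m) (by omega)
      (mul_mem (hxm _) hs)
    rw [mul_add, h5, add_zero]
    rw [comm] at hc'
    clear hc
    induction hc' using Submodule.span_induction with
    | mem c' hc' =>
      obtain ⟨u, hu, a, ha, rfl⟩ := hc'
      obtain ⟨u', hu', huu⟩ := hC.ex u hu
      have h6 := hpow (m - 3) (by omega) ⟨u', hu'⟩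
      rw [hT3, Module.End.one_apply] at h6
      have h7 := h6 a (by rwa [show m - 1 - (m - 3) = 2 by omega])
      have h8 : (u - u') * x ^ (m - 3) * a = 0 := h.eq_zero (i := 2 + (m - 3) + 2) (by omega)
        (mul_mem (mul_mem huu (hxm _)) ha)
      have h9 : (x : A) ^ (m - 3) * (u - u') * a = 0 :=
        h.eq_zero (i := m - 3 + 2 + 2) (by omega) (mul_mem (mul_mem (hxm _) huu) ha)
      have h10 : lam ((x : A) ^ (m - 3) * (a * u)) = lam (u * x ^ (m - 3) * a) := by
        rw [← mul_assoc, h.symm, ← mul_assoc]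
      have e1 : u * (x : A) ^ (m - 3) * a = (u - u') * x ^ (m - 3) * a + u' * x ^ (m - 3) * a := by
        noncomm_ring
      have e2 : (x : A) ^ (m - 3) * (u * a) =
          x ^ (m - 3) * (u - u') * a + x ^ (m - 3) * u' * a := by
        noncomm_ring
      rw [mul_sub, map_sub, h10, e1, e2, h8, h9, zero_add, zero_add]
      rw [sub_mul, map_sub] at h7
      linear_combination -h7
    | zero => rw [mul_zero, map_zero]
    | add a b _ _ ha hb => rw [mul_add, map_add, ha, hb, add_zero]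
    | smul c a _ ha => rw [mul_smul_comm, map_smul, ha, smul_zero]
  have hΛ0 : ∀ v : C, Λ v = 0 := by
    intro v
    rw [hΛ]
    have e : (x : A) ^ (m - 1) * v = x ^ (m - 3) * (x * x * v) := by
      rw [show m - 1 = m - 3 + 1 + 1 by omega, pow_succ, pow_succ]
      noncomm_ring
    rw [e]
    apply hzero
    exact mul_mem (i := 2) (sq_mem (hC.le x.2) (hC.le x.2)) (mem_J_pow_one.2 (hC.le v.2))
  exact hx0 (hndΛ x fun u => hΛ0 _)

end Cfsg.Agent.H632.Three
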