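import Mathlib
import Cfsg.Agent.H632.Three4

/-!
# Local symmetric algebras with `dim J/J² = 3` and five-dimensional centre

`three`: such an algebra has dimension at most eight.
-/

set_option autoImplicit false

namespace Cfsg.Agent.H632.Three

open Module Cfsg.Agent.H632.SymLocal

variable {K A : Type*} [Field K] [Ring A] [Algebra K A]
variable {lam : A →ₗ[K] K} {π : A →ₐ[K] K} {m : ℕ} {C : Submodule K A}

/-- Products of four elements of `C` and elements of `J^(m-4)` generate. -/
theorem Ctx.four_ne (h : Ctx lam π m) (hC : Cpl π C)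
    (h4 : ∀ u v w z : C, ∀ e ∈ J π ^ (m - 4), lam ((u : A) * v * w * z * e) = 0) : False := by
  have hm := h.hm
  obtain ⟨s, hs, hs0⟩ := h.exists_lam_ne
  apply hs0
  -- the general products
  have key : ∀ u ∈ J π, ∀ v ∈ J π, ∀ w ∈ J π, ∀ z ∈ J π, ∀ e ∈ J π ^ (m - 4),
      lam (u * v * w * z * e) = 0 := by
    intro u hu v hv w hw z hz e he
    obtain ⟨u', hu', huu⟩ := hC.ex u hu
    obtain ⟨v', hv', hvv⟩ := hC.ex v hv
    obtain ⟨w', hw', hww⟩ := hC.ex w hw
    obtain ⟨z', hz', hzz⟩ := hC.ex z hz
    have hv'J := hC.le hv'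
    have hw'J := hC.le hw'
    have hu'J := hC.le hu'
    rw [← mem_J_pow_one] at hu hv hw hz hu'J hv'J hw'J
    have e1 : (u - u') * v * w * z * e = 0 := h.eq_zero (i := 2 + 1 + 1 + 1 + (m - 4)) (by omega)
      (mul_mem (mul_mem (mul_mem (mul_mem huu hv) hw) hz) he)
    have e2 : u' * (v - v') * w * z * e = 0 := h.eq_zero (i := 1 + 2 + 1 + 1 + (m - 4)) (by omega)
      (mul_mem (mul_mem (mul_mem (mul_mem hu'J hvv) hw) hz) he)
    have e3 : u' * v' * (w - w') * z * e = 0 :=
      h.eq_zero (i := 1 + 1 + 2 + 1 + (m - 4)) (by omega)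
      (mul_mem (mul_mem (mul_mem (mul_mem hu'J hv'J) hww) hz) he)
    have e4 : u' * v' * w' * (z - z') * e = 0 :=
      h.eq_zero (i := 1 + 1 + 1 + 2 + (m - 4)) (by omega)
      (mul_mem (mul_mem (mul_mem (mul_mem hu'J hv'J) hw'J) hzz) he)
    have e5 : u * v * w * z * e = (u - u') * v * w * z * e + u' * (v - v') * w * z * e +
        u' * v' * (w - w') * z * e + u' * v' * w' * (z - z') * e + u' * v' * w' * z' * e := by
      noncomm_ring
    rw [e5, e1, e2, e3, e4, zero_add, zero_add, zero_add, zero_add]
    exact h4 ⟨u', hu'⟩ ⟨v', hv'⟩ ⟨w', hw'⟩ ⟨z', hz'⟩ e he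
  rw [show m = 4 + (m - 4) by omega, pow_add] at hs
  clear hs0
  induction hs using Submodule.mul_induction_on' with
  | mem_mul_mem a ha e he =>
    rw [pow_succ] at ha
    induction ha using Submodule.mul_induction_on' with
    | mem_mul_mem a ha z hz =>
      rw [pow_succ] at ha
      induction ha using Submodule.mul_induction_on' with
      | mem_mul_mem a ha w hw =>
        rw [pow_two] at ha
        induction ha using Submodule.mul_induction_on' with
        | mem_mul_mem u hu v hv => exact key u hu v hv w hw z hz e he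
        | add a _ b _ ha hb => rw [add_mul, add_mul, add_mul, map_add, ha, hb, add_zero]
      | add a _ b _ ha hb => rw [add_mul, add_mul, map_add, ha, hb, add_zero]
    | add a _ b _ ha hb => rw [add_mul, map_add, ha, hb, add_zero]
  | add a _ b _ ha hb => rw [map_add, ha, hb, add_zero]

/-- The quadrilinear form. -/
noncomputable def quad (lam : A →ₗ[K] K) (C : Submodule K A) (e : A) :
    C →ₗ[K] C →ₗ[K] C →ₗ[K] C →ₗ[K] K :=
  LinearMap.mk₂ K (fun u v => LinearMap.mk₂ K (fun w z => lam ((u : A) * v * w * z * e))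
      (by intros; simp [add_mul, mul_add]) (by intros; simp)
      (by intros; simp [add_mul, mul_add]) (by intros; simp))
    (by intros; ext; simp [add_mul]) (by intros; ext; simp)
    (by intros; ext; simp [add_mul, mul_add]) (by intros; ext; simp)

/-- The reversed quadrilinear form. -/
noncomputable def quad' (lam : A →ₗ[K] K) (C : Submodule K A) (e : A) :
    C →ₗ[K] C →ₗ[K] C →ₗ[K] C →ₗ[K] K :=
  LinearMap.mk₂ K (fun u v => LinearMap.mk₂ K (fun w z => lam ((z : A) * w * v * u * e))
      (by intros; simp [add_mul, mul_add]) (by intros; simp)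
      (by intros; simp [add_mul]) (by intros; simp))
    (by intros; ext; simp [add_mul, mul_add]) (by intros; ext; simp)
    (by intros; ext; simp [add_mul, mul_add]) (by intros; ext; simp)

theorem quad_apply (e : A) (u v w z : C) :
    quad lam C e u v w z = lam ((u : A) * v * w * z * e) := rfl

theorem quad'_apply (e : A) (u v w z : C) :
    quad' lam C e u v w z = lam ((z : A) * w * v * u * e) := rfl

theorem Ctx.prod_zero (h : Ctx lam π m) (hC : Cpl π C) (u v : C)
    (huv : (u : A) * v ∈ perp lam (J π ^ (m - 2))) (w z : C) {e : A} (he : e ∈ J π ^ (m - 4)) :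
    lam ((u : A) * v * w * z * e) = 0 ∧ lam ((w : A) * u * v * z * e) = 0 ∧
      lam ((w : A) * z * u * v * e) = 0 := by
  have hm := h.hm
  have hw := mem_J_pow_one.2 (hC.le w.2)
  have hz := mem_J_pow_one.2 (hC.le z.2)
  refine ⟨?_, ?_, ?_⟩
  · have := huv (w * z * e) (by
      have := mul_mem (mul_mem hw hz) he
      rwa [show 1 + 1 + (m - 4) = m - 2 by omega] at this)
    rwa [← mul_assoc, ← mul_assoc] at this
  · have := huv (z * e * w) (by
      have := mul_mem (mul_mem hz he) hw
      rwa [show 1 + (m - 4) + 1 = m - 2 by omega] at this)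
    rw [← this, mul_assoc (w : A) u v, mul_assoc (w : A), mul_assoc (w : A), h.symm]
    congr 1
    noncomm_ring
  · have := huv (e * (w * z)) (by
      have := mul_mem he (mul_mem hw hz)
      rwa [show m - 4 + (1 + 1) = m - 2 by omega] at this)
    rw [← this, mul_assoc ((w : A) * z) u v, mul_assoc ((w : A) * z), h.symm]
    congr 1
    noncomm_ring

theorem Ctx.singular_case [IsAlgClosed K] [FiniteDimensional K A] (h : Ctx lam π m)
    (hC : Cpl π C) (hnd : ∀ v ∈ J π, v ∈ perp lam (J π ^ (m - 1)) → v ∈ J π ^ 2)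
    (hx : ∀ x, ¬ Function.Injective (mu lam m hC x)) : False := by
  have hm := h.hm
  have hinf : Infinite K := IsAlgClosed.instInfinite
  have hdim : finrank K C = finrank K (Gr lam π m) := by
    rw [hC.dim, h.finrank_gr hC hnd]
  have hx' : ∀ x, ¬ Function.Injective ((mu lam m hC).flip x) := by
    intro x hi
    exact hx x (h.mu_left_inj hC hnd x
      ((LinearMap.injective_iff_surjective_of_finrank_eq_finrank hdim).1 hi))
  have hs : ∀ x : C, ∃ v : C, v ≠ 0 ∧ mu lam m hC x v = 0 := by
    intro x
    have h1 := hx x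
    rw [injective_iff_map_eq_zero] at h1
    push Not at h1
    obtain ⟨v, h2, h3⟩ := h1
    exact ⟨v, h3, h2⟩
  have hs' : ∀ x : C, ∃ v : C, v ≠ 0 ∧ (mu lam m hC).flip x v = 0 := by
    intro x
    have h1 := hx' x
    rw [injective_iff_map_eq_zero] at h1
    push Not at h1
    obtain ⟨v, h2, h3⟩ := h1
    exact ⟨v, h3, h2⟩
  have h3' := h.finrank_gr hC hnd
  rcases Net.net hC.dim h3' (mu lam m hC) (h.inj_right hC hnd) (h.forms_mu hC) hs with h1 | h1
  · rcases Net.net hC.dim h3' (mu lam m hC).flip (h.inj_left hC hnd)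
      (fun f hf => h.forms_mu hC f fun x v => hf v x) hs' with h2 | h2
    · exact Net2.corner hC.dim (mu lam m hC) (h.comm_dep hC hnd) (h.inj_left hC hnd) h1 h2
    · obtain ⟨N, hN, hN'⟩ := h2
      apply h.four_ne hC
      intro u v w z e he
      have := Net2.fourN hC.dim (mu lam m hC).flip (quad' lam C e)
        (fun u v w z huv => by
          rw [LinearMap.flip_apply, mu_eq_zero_iff] at huv
          exact (h.prod_zero hC _ _ huv z w he).2.2)
        (fun u v w z huv => by
          rw [LinearMap.flip_apply, mu_eq_zero_iff] at huv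
          exact (h.prod_zero hC _ _ huv z u he).2.1)
        (fun u v w z huv => by
          rw [LinearMap.flip_apply, mu_eq_zero_iff] at huv
          exact (h.prod_zero hC _ _ huv v u he).1) N hN hN' z w v u
      exact this
  · obtain ⟨N, hN, hN'⟩ := h1
    apply h.four_ne hC
    intro u v w z e he
    exact Net2.fourN hC.dim (mu lam m hC) (quad lam C e)
      (fun u v w z huv => by
        rw [mu_eq_zero_iff] at huv
        exact (h.prod_zero hC _ _ huv w z he).1)
      (fun u v w z huv => by
        rw [mu_eq_zero_iff] at huv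
        exact (h.prod_zero hC _ _ huv u z he).2.1)
      (fun u v w z huv => by
        rw [mu_eq_zero_iff] at huv
        exact (h.prod_zero hC _ _ huv u v he).2.2) N hN hN' u v w z

/-- The context is contradictory if `dim J/J² = 3`. -/
theorem Ctx.false [IsAlgClosed K] [FiniteDimensional K A] (h : Ctx lam π m)
    (h3 : finrank K (J π) = finrank K (J π ^ 2 : Submodule K A) + 3) : False := by
  obtain ⟨C, hCJ, hex, hdis, hdim⟩ := exists_compl_in (U := J π ^ 2) (W := J π) (pow_le_J 1)
  have hC : Cpl π C := by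
    refine ⟨hCJ, hex, fun c hc hc2 => ?_, by omega⟩
    have : c ∈ C ⊓ J π ^ 2 := ⟨hc, hc2⟩
    rwa [hdis, Submodule.mem_bot] at this
  have hnd : ∀ v ∈ J π, v ∈ perp lam (J π ^ (m - 1)) → v ∈ J π ^ 2 :=
    fun v hv hvp => h.nondeg h3 hv hvp
  by_cases hx : ∃ x, Function.Injective (mu lam m hC x)
  · obtain ⟨x, hx⟩ := hx
    exact h.bijective_case hC hnd x hx
  · push Not at hx
    exact h.singular_case hC hnd hx

/-- Commutators from the centre. -/
theorem mem_center_of_perp_comm (hs : ∀ a b, lam (a * b) = lam (b * a))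
    (hn : ∀ a, (∀ b, lam (a * b) = 0) → a = 0) {a : A} (ha : a ∈ perp lam (comm (J π) (J π))) :
    a ∈ Subalgebra.center K A := by
  rw [Subalgebra.mem_center_iff]
  intro x
  rw [← sub_eq_zero]
  refine hn _ fun y => ?_
  have h1 : lam ((x * a - a * x) * y) = lam (a * (y * x - x * y)) := by
    rw [sub_mul, mul_sub, map_sub, map_sub, ← mul_assoc, ← mul_assoc, mul_assoc x a y, hs x (a * y)]
  rw [h1]
  apply ha
  have h2 : y * x - x * y = (y - algebraMap K A (π y)) * (x - algebraMap K A (π x)) -
      (x - algebraMap K A (π x)) * (y - algebraMap K A (π y)) := by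
    have e1 := Algebra.commutes (π x) y
    have e2 := Algebra.commutes (π y) x
    have e3 := Algebra.commutes (π y) (algebraMap K A (π x))
    rw [sub_mul, mul_sub, mul_sub, sub_mul, mul_sub, mul_sub, e1, e2, e3]
    abel
  rw [h2]
  exact Submodule.subset_span ⟨_, sub_mem_J y, _, sub_mem_J x, rfl⟩

theorem comm_le_perp_center (hs : ∀ a b, lam (a * b) = lam (b * a)) :
    comm (J π) (J π) ≤ perp lam (Subalgebra.toSubmodule (Subalgebra.center K A)) := by
  apply comm_le_perp
  intro a _ b _ c hc
  rw [Subalgebra.mem_toSubmodule, Subalgebra.mem_center_iff] at hc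
  rw [sub_mul, map_sub, mul_assoc, mul_assoc, hs b, mul_assoc, hc b, sub_self]

/-- The orthogonal of the centre. -/
theorem perp_center_le [FiniteDimensional K A] (hs : ∀ a b, lam (a * b) = lam (b * a))
    (hn : ∀ a, (∀ b, lam (a * b) = 0) → a = 0) :
    perp lam (Subalgebra.toSubmodule (Subalgebra.center K A)) ≤ comm (J π) (J π) := by
  have h1 : perp lam (comm (J π) (J π)) ≤ Subalgebra.toSubmodule (Subalgebra.center K A) :=
    fun a ha => mem_center_of_perp_comm hs hn ha
  have h2 := Submodule.finrank_mono h1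
  have h3 := finrank_perp hs hn (comm (J π) (J π))
  have h4 := finrank_perp hs hn (Subalgebra.toSubmodule (Subalgebra.center K A))
  rw [Submodule.eq_of_le_of_finrank_le (comm_le_perp_center (π := π) hs) (by omega)]

/-- Local symmetric algebras with `dim J/J² = 3` and five-dimensional centre have dimension
at most eight. -/
theorem three [IsAlgClosed K] [FiniteDimensional K A]
    (hπ : ∀ a, π a = 0 → IsNilpotent a) (hs : ∀ a b, lam (a * b) = lam (b * a))
    (hn : ∀ a, (∀ b, lam (a * b) = 0) → a = 0)
    (hZ : finrank K (Subalgebra.center K A) = 5)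
    (h3 : finrank K (J π) = finrank K (J π ^ 2 : Submodule K A) + 3) : finrank K A ≤ 8 := by
  have hJ := finrank_J π
  have hp2 := finrank_perp hs hn (J π ^ 2)
  by_cases h4 : J π ^ 4 = ⊥
  · have h5 : J π ^ 2 ≤ perp lam (J π ^ 2) := by
      intro a ha b hb
      have h6 : a * b ∈ J π ^ 4 := mul_mem (i := 2) (j := 2) ha hb
      rw [h4, Submodule.mem_bot] at h6
      rw [h6, map_zero]
    have h6 := Submodule.finrank_mono h5
    omega
  · exfalso
    obtain ⟨N, hN⟩ := exists_pow_eq_bot hπ
    classical
    have hex : ∃ n, J π ^ n = ⊥ := ⟨N, hN⟩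
    set n := Nat.find hex with hn'
    have hn1 : J π ^ n = ⊥ := Nat.find_spec hex
    have hn2 : ∀ k, k < n → J π ^ k ≠ ⊥ := fun k hk => Nat.find_min hex hk
    have hn5 : 5 ≤ n := by
      by_contra hlt
      push Not at hlt
      apply h4
      have hn0 : n ≠ 0 := by
        intro h0
        rw [h0, pow_zero] at hn1
        have : (1 : A) ∈ (⊥ : Submodule K A) := by
          rw [← hn1]
          exact Submodule.mem_one.2 ⟨1, map_one _⟩
        rw [Submodule.mem_bot] at this
        have h7 : (1 : K) = 0 := by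
          have := congrArg π this
          rwa [map_one, map_zero] at this
        exact one_ne_zero h7
      rw [eq_bot_iff, ← hn1]
      exact pow_anti (by omega) (by omega)
    obtain ⟨m, hm⟩ : ∃ m, n = m + 1 := ⟨n - 1, by omega⟩
    have hne : J π ^ m ≠ ⊥ := hn2 m (by omega)
    have hlam : ∃ s ∈ J π ^ m, lam s ≠ 0 := by
      by_contra hcon
      push Not at hcon
      apply hne
      rw [eq_bot_iff]
      intro b hb
      refine hn b fun c => ?_
      obtain ⟨k, rfl⟩ := Nat.exists_eq_add_of_le' (show 1 ≤ m by omega)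
      exact hcon _ (mul_mem_pow_right k c hb)
    obtain ⟨s, hsm, hs0⟩ := hlam
    -- the centre
    have hcen : Subalgebra.toSubmodule (Subalgebra.center K A) ≤
        Submodule.span K {(1 : A)} ⊔ perp lam (J π ^ 2) := by
      have h21 : J π ^ 2 ≠ ⊥ := hn2 2 (by omega)
      have hle : Submodule.span K {(1 : A)} ⊔ perp lam (J π ^ 2) ≤
          Subalgebra.toSubmodule (Subalgebra.center K A) := by
        apply sup_le
        · rw [Submodule.span_singleton_le_iff_mem]
          exact one_mem (Subalgebra.center K A)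
        · exact fun a ha => perp_le_center hs hn ha
      have h1 : perp lam (J π ^ 2) < Submodule.span K {(1 : A)} ⊔ perp lam (J π ^ 2) := by
        rw [SetLike.lt_iff_le_and_exists]
        exact ⟨le_sup_right, 1, Submodule.mem_sup_left (Submodule.mem_span_singleton_self _),
          one_notMem_perp hn h21⟩
      have h2 := Submodule.finrank_lt_finrank_of_lt h1
      have h5 : finrank K (Subalgebra.toSubmodule (Subalgebra.center K A)) = 5 := hZ
      rw [Submodule.eq_of_le_of_finrank_le hle (by omega)]
    have hctx : Ctx lam π m := by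
      refine ⟨hs, hn, by rw [← hm, hn1], hne, by omega, ?_⟩
      intro c hc
      refine ⟨c - (lam c * (lam s)⁻¹) • s, ?_, (lam c * (lam s)⁻¹) • s,
        Submodule.smul_mem _ _ hsm, by rw [sub_add_cancel]⟩
      apply perp_center_le hs hn
      intro z hz
      obtain ⟨y, hy, w, hw, rfl⟩ := Submodule.mem_sup.1 (hcen hz)
      obtain ⟨d, rfl⟩ := Submodule.mem_span_singleton.1 hy
      have hcs : c - (lam c * (lam s)⁻¹) • s ∈ J π ^ 2 :=
        sub_mem hc (Submodule.smul_mem _ _ (pow_anti (by omega) (by omega) hsm))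
      have h6 : lam ((c - (lam c * (lam s)⁻¹) • s) * w) = 0 := by
        rw [hs]
        exact hw _ hcs
      rw [mul_add, map_add, h6, add_zero, mul_smul_comm, mul_one, map_smul, map_sub, map_smul,
        smul_eq_mul, smul_eq_mul, mul_assoc, inv_mul_cancel₀ hs0, mul_one, sub_self, mul_zero]
    exact hctx.false h3

end Cfsg.Agent.H632.Three
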